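import Cfsg.Agent.Omega.NOThreeL.RF.Gal
import Cfsg.Agent.Omega.NOThreeL.RA.FromNat
import Cfsg.Agent.Omega.IId.Ns.HAvg

/-!
# NO-3L, `R ∩ (A)`, field automorphisms (NsF): `S` acts semilinearly on `V / D` (helper71)

`M : NatK F S P (zl S P) (cv S P) 1`.

* `exists_semi` (pure): an additive injective map of `F²` which normalises `SL₂(F)` and the line is semilinear;
* `Semi M s τ` : `s` acts on `V / D` as a `τ`-semilinear map; `Semi.exists`, `Semi.unique`, `Semi.mul`;
* `SL M` : the elements of `S` acting as some `up b` (trivially on `D`); **`mem_SL_iff`** : `s ∈ SL M ↔ Semi M s 1`;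
* **`relIndex_SL_le`** : `|S : SL M| ≤ |Aut F|`;
* `Semi.conj_dg` : `s t s⁻¹` acts as `dg (τ l) * up c` if `t` acts as `dg l`.
-/

set_option autoImplicit false
set_option linter.unusedSectionVars false

namespace Cfsg.Agent.Omega.NOThreeL.RF.GD

open Subgroup Cfsg Cfsg.Agent.ZN Cfsg.Agent.Omega.MinPar
open Cfsg.Agent.Omega.FrameFF Cfsg.Agent.Omega.FFThm Cfsg.Agent.Lib.SL2Mat
open Cfsg.Agent.Omega.NatPair (ap ap_add ap_mul ap_one ap_inj ext2 ap_zero' ap_one' ap_inv_ap ap_ap_inv)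
open Cfsg.Agent.Omega.HOne (cv_le conj_mem_zl conj_mem_cv)
open Cfsg.Agent.Omega.IId.Cv Cfsg.Agent.Omega.IId.Ns
open Cfsg.Agent.MinSimple.VModule (zc_comm zc_sq zc_le mem_zc le_normalizer_o2 normalizer_le_normalizer_zc zc_le_zl
  o2_isPGroup o2_le)

universe u

section pure

variable {F : Type} [Field F]

theorem ap_smul (A : Matrix.SpecialLinearGroup (Fin 2) F) (c : F) (x : Fin 2 → F) : ap A (c • x) = c • ap A x := by
  apply ext2
  · rw [ap_zero', Pi.smul_apply, Pi.smul_apply, Pi.smul_apply, ap_zero', smul_eq_mul, smul_eq_mul, smul_eq_mul]; ring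
  · rw [ap_one', Pi.smul_apply, Pi.smul_apply, Pi.smul_apply, ap_one', smul_eq_mul, smul_eq_mul, smul_eq_mul]; ring

/-- An additive injective map of `F²` which normalises `SL₂(F)` and preserves the line `{x | x 1 = 0}`. -/
theorem exists_semi [Finite F] (φ : (Fin 2 → F) → Fin 2 → F) (hadd : ∀ x y, φ (x + y) = φ x + φ y)
    (hinj : ∀ x, φ x = 0 → x = 0) (hline : ∀ x : F, φ ![x, 0] 1 = 0)
    (hnorm : ∀ A : Matrix.SpecialLinearGroup (Fin 2) F, ∃ B : Matrix.SpecialLinearGroup (Fin 2) F,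
      ∀ x, φ (ap A x) = ap B (φ x)) : ∃ σ : F ≃+* F, ∀ (c : F) x, φ (c • x) = σ c • φ x := by
  have h0 : φ 0 = 0 := by
    have := hadd 0 0
    rw [add_zero] at this
    exact left_eq_add.1 this
  set ρ : F → F := fun c => φ ![c, 0] 0 with hρ
  have hv : ∀ c, φ ![c, 0] = ![ρ c, 0] := fun c => ext2 rfl (hline c)
  have hρadd : ∀ c d, ρ (c + d) = ρ c + ρ d := by
    intro c d
    have e : (![c + d, 0] : Fin 2 → F) = ![c, 0] + ![d, 0] := by
      apply ext2
      · simp
      · simp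
    show φ ![c + d, 0] 0 = _
    rw [e, hadd]
    rfl
  have hρinj : ∀ c, ρ c = 0 → c = 0 := by
    intro c hc
    have h1 : φ ![c, 0] = 0 := by
      rw [hv, hc]
      apply ext2
      · simp
      · simp
    have h2 := congrFun (hinj _ h1) 0
    simpa using h2
  have hρ1 : ρ 1 ≠ 0 := fun h => one_ne_zero (hρinj 1 h)
  have hmul : ∀ l c, ρ (l * c) * ρ 1 = ρ l * ρ c := by
    intro l c
    by_cases hl : l = 0
    · subst hl
      have h1 : ρ 0 = 0 := by
        show φ ![0, 0] 0 = 0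
        have e : (![0, 0] : Fin 2 → F) = 0 := by
          apply ext2
          · simp
          · simp
        rw [e, h0]
        rfl
      rw [zero_mul, h1, zero_mul, zero_mul]
    · obtain ⟨B, hB⟩ := hnorm (dg l hl)
      have h1 : ∀ y, ρ (l * y) = ent B 0 0 * ρ y := by
        intro y
        have e : ap (dg l hl) ![y, 0] = ![l * y, 0] := by
          apply ext2
          · rw [ap_zero']; simp
          · rw [ap_one']; simp
        have h2 := congrFun (hB ![y, 0]) 0
        rw [e, hv, hv, ap_zero'] at h2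
        simpa using h2
      have h3 := h1 1
      rw [mul_one] at h3
      rw [h1 c, h3]
      ring
  let f : F →+* F :=
    { toFun := fun c => ρ c / ρ 1
      map_one' := div_self hρ1
      map_mul' := fun a b => by
        show ρ (a * b) / ρ 1 = ρ a / ρ 1 * (ρ b / ρ 1)
        rw [div_mul_div_comm, ← hmul]
        field_simp
      map_zero' := by
        have h1 := hρadd 0 0
        rw [add_zero] at h1
        show ρ 0 / ρ 1 = 0
        rw [left_eq_add.1 h1, zero_div]
      map_add' := fun a b => by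
        show ρ (a + b) / ρ 1 = ρ a / ρ 1 + ρ b / ρ 1
        rw [hρadd, add_div] }
  have hf : Function.Bijective f := Finite.injective_iff_bijective.1 f.injective
  refine ⟨RingEquiv.ofBijective f hf, fun c x => ?_⟩
  show φ (c • x) = (ρ c / ρ 1) • φ x
  by_cases hx : x = 0
  · rw [hx, smul_zero, h0, smul_zero]
  obtain ⟨A, hA⟩ := NatPair.exists_ap (F := F) (x := ![1, 0]) (y := x) (by
    intro h
    have := congrFun h 0
    simp at this) hx
  obtain ⟨B, hB⟩ := hnorm A
  have e1 : c • x = ap A ![c, 0] := by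
    rw [← hA, ← ap_smul]
    congr 1
    apply ext2
    · simp
    · simp
  rw [e1, hB, hv]
  rw [← hA, hB, hv, ← ap_smul]
  congr 1
  apply ext2
  · simp [div_mul_cancel₀ _ hρ1]
  · simp

end pure

section semi

variable {G : Type u} [Group G] {F : Type} [Field F] {S P : Subgroup G}
  (M : NatK F S P (zl S P) (cv S P) 1)

/-- `s` acts on `V / D` as a `τ`-semilinear map. -/
def Semi (s : G) (τ : F ≃+* F) : Prop :=
  ∀ v ∈ zl S P, ∀ w ∈ zl S P, ∀ c : F, M.e w 0 = c • M.e v 0 → M.e (s * w * s⁻¹) 0 = τ c • M.e (s * v * s⁻¹) 0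

variable {M}

theorem surj1 (x : Fin 2 → F) : ∃ v ∈ zl S P, M.e v 0 = x := by
  obtain ⟨v, hv, h⟩ := M.surj fun _ => x
  exact ⟨v, hv, by rw [h]⟩

theorem ker1 {v : G} (hv : v ∈ zl S P) : M.e v 0 = 0 ↔ v ∈ cv S P := by
  rw [← M.ker v hv]
  constructor
  · intro h
    funext i
    rw [Subsingleton.elim i 0]
    exact h
  · intro h
    rw [h]
    rfl

theorem e_ext {v w : G} (h : M.e v 0 = M.e w 0) : M.e v = M.e w := by
  funext i
  rw [Subsingleton.elim i 0]
  exact h

theorem ne_zero_conj {g v : G} (hg : g ∈ P) (hv : v ∈ zl S P) (h : M.e (g * v * g⁻¹) 0 = 0) : M.e v 0 = 0 := by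
  rw [ker1 hv]
  have h1 := (ker1 (conj_mem_zl hg hv)).1 h
  have h2 := conj_mem_cv (inv_mem hg) h1
  have e : g⁻¹ * (g * v * g⁻¹) * g⁻¹⁻¹ = v := by group
  rwa [e] at h2

theorem Semi.unique {s : G} (hs : s ∈ P) {τ υ : F ≃+* F} (h : Semi M s τ) (h' : Semi M s υ) : τ = υ := by
  obtain ⟨v, hv, hv1⟩ := surj1 (M := M) ![1, 0]
  have hne : M.e (s * v * s⁻¹) 0 ≠ 0 := by
    intro h0
    have h1 := ne_zero_conj hs hv h0
    rw [hv1] at h1
    have := congrFun h1 0
    simp at this
  ext c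
  obtain ⟨w, hw, hw1⟩ := surj1 (M := M) (c • ![1, 0])
  have h1 := h v hv w hw c (by rw [hw1, hv1])
  have h2 := h' v hv w hw c (by rw [hw1, hv1])
  rw [h1] at h2
  exact smul_left_injective F hne h2

theorem Semi.mul {s t : G} (ht : t ∈ P) {τ υ : F ≃+* F} (h : Semi M s τ) (h' : Semi M t υ) :
    Semi M (s * t) (τ * υ) := by
  intro v hv w hw c hc
  have h1 := h' v hv w hw c hc
  have h2 := h _ (conj_mem_zl ht hv) _ (conj_mem_zl ht hw) _ h1
  have e1 : s * t * w * (s * t)⁻¹ = s * (t * w * t⁻¹) * s⁻¹ := by group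
  have e2 : s * t * v * (s * t)⁻¹ = s * (t * v * t⁻¹) * s⁻¹ := by group
  rw [e1, e2, h2]
  rfl

theorem Semi.one_of_act {s : G} {A : Matrix.SpecialLinearGroup (Fin 2) F}
    (h : ∀ v ∈ zl S P, M.e (s * v * s⁻¹) 0 = ap A (M.e v 0)) : Semi M s 1 := by
  intro v hv w hw c hc
  rw [h w hw, h v hv, hc, ap_smul]
  rfl

theorem Semi.exists [Finite F] (hSP : S ≤ P) {s : G} (hs : s ∈ S) : ∃ τ, Semi M s τ := by
  have hsP := hSP hs
  choose r hr hrx using surj1 (M := M)
  have h1 : ∀ v ∈ zl S P, M.e (s * v * s⁻¹) 0 = M.e (s * r (M.e v 0) * s⁻¹) 0 := by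
    intro v hv
    exact congrFun (e_conj_congr M hsP hv (hr _) (e_ext (hrx _).symm)) 0
  obtain ⟨σ, hσ⟩ := exists_semi (F := F) (fun x => M.e (s * r x * s⁻¹) 0) (by
      intro x y
      have h2 := h1 _ (mul_mem (hr x) (hr y))
      have h3 : M.e (r x * r y) 0 = x + y := by rw [M.mul _ (hr x) _ (hr y), Pi.add_apply, hrx, hrx]
      rw [h3] at h2
      show M.e (s * r (x + y) * s⁻¹) 0 = _
      rw [← h2]
      have e : s * (r x * r y) * s⁻¹ = (s * r x * s⁻¹) * (s * r y * s⁻¹) := by group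
      rw [e, M.mul _ (conj_mem_zl hsP (hr x)) _ (conj_mem_zl hsP (hr y))]
      rfl) (by
      intro x hx
      rw [← hrx x]
      exact ne_zero_conj hsP (hr x) hx) (by
      intro x
      obtain ⟨π, hπ⟩ := M.line s hs
      have h2 := hπ (r ![x, 0]) (hr _) 0
      rw [Subsingleton.elim (π 0) 0] at h2
      show M.e (s * r ![x, 0] * s⁻¹) 0 1 = 0
      rw [h2, hrx]
      simp) (by
      intro A
      obtain ⟨k, hk, hkA⟩ := M.lift fun _ => A
      obtain ⟨B, hB⟩ := M.norm s hsP k hk (fun _ => A) hkA.1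
      refine ⟨B 0, fun x => ?_⟩
      have h2 := hkA.1 (r x) (hr x) 0
      rw [hrx] at h2
      have hkr := conj_mem_zl hk (hr x)
      have h3 := h1 _ hkr
      rw [h2] at h3
      show M.e (s * r (ap A x) * s⁻¹) 0 = ap (B 0) (M.e (s * r x * s⁻¹) 0)
      have e1 : s * (k * r x * k⁻¹) * s⁻¹ = s * k * s⁻¹ * (s * r x * s⁻¹) * (s * k * s⁻¹)⁻¹ := by group
      rw [← h3, ← hB _ (conj_mem_zl hsP (hr x)) 0, e1])
  refine ⟨σ, fun v hv w hw c hc => ?_⟩
  rw [h1 w hw, h1 v hv, hc]
  exact hσ c _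

/-- `s t s⁻¹` acts as `dg (τ l) * up c` if `t` acts as `dg l` -/
theorem Semi.conj_dg (hSP : S ≤ P) {s t : G} (hs : s ∈ S) {τ : F ≃+* F} (h : Semi M s τ) {l : F} (hl : l ≠ 0)
    (ht : Al M 0 t (dg l hl)) : ∃ c, Al M 0 (s * t * s⁻¹) (dg (τ l) (by simpa using hl) * up c) := by
  have hsP := hSP hs
  have hm : Mv M s 0 0 := by
    intro v hv
    constructor
    · exact ne_zero_conj hsP hv
    · intro h0
      have h1 := conj_mem_cv hsP ((ker1 hv).1 h0)
      exact (ker1 (conj_mem_zl hsP hv)).2 h1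
  obtain ⟨m, c, hmc⟩ := conj_Al_line hSP hs hm (by simp) ht
  refine ⟨c, ?_⟩
  obtain ⟨v, hv, hv1⟩ := surj1 (M := M) ![1, 0]
  have h1 := hmc.same (conj_mem_zl hsP hv)
  have e1 : s * t * s⁻¹ * (s * v * s⁻¹) * (s * t * s⁻¹)⁻¹ = s * (t * v * t⁻¹) * s⁻¹ := by group
  rw [e1] at h1
  have h2 := h v hv _ (ht.V hv) l (by
    rw [ht.same hv, hv1]
    apply ext2
    · rw [ap_zero']; simp
    · rw [ap_one']; simp)
  rw [h2] at h1
  have h3 : M.e (s * v * s⁻¹) 0 1 = 0 := by
    rw [conj_line hSP hs hm hv, hv1]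
    simp
  have h4 := congrFun h1 0
  rw [ap_mul, ap_up2, Pi.smul_apply, ap_zero', h3] at h4
  have h5 : M.e (s * v * s⁻¹) 0 0 ≠ 0 := by
    intro h0
    have h6 : M.e (s * v * s⁻¹) 0 = 0 := ext2 h0 h3
    have h7 := ne_zero_conj hsP hv h6
    rw [hv1] at h7
    have := congrFun h7 0
    simp at this
  have h6 : τ l = (m : F) := by
    have h7 : τ l * M.e (s * v * s⁻¹) 0 0 = (m : F) * M.e (s * v * s⁻¹) 0 0 := by simpa using h4
    exact mul_right_cancel₀ h5 h7
  refine hmc.of_eq ?_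
  congr 1
  apply ext_ent <;> simp [h6]

variable (M)

/-- The elements of `S` acting as some `up b`, trivially on `D`. -/
def SL : Subgroup G where
  carrier := {s | s ∈ S ∧ ∃ b, Al M 0 s (up b)}
  one_mem' := ⟨one_mem _, 0, by rw [up_zero]; exact Al.one 0⟩
  mul_mem' := by
    rintro a b ⟨ha, c, hc⟩ ⟨hb, d, hd⟩
    exact ⟨mul_mem ha hb, c + d, (hc.mul hd).of_eq (up_mul c d)⟩
  inv_mem' := by
    rintro a ⟨ha, c, hc⟩
    exact ⟨inv_mem ha, -c, hc.inv.of_eq (up_inv c)⟩

variable {M}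

theorem mem_SL {s : G} : s ∈ SL M ↔ s ∈ S ∧ ∃ b, Al M 0 s (up b) := Iff.rfl

theorem SL_le : SL M ≤ S := fun _ h => h.1

end semi

section group

variable {G : Type u} [Group G] [Finite G] {F : Type} [Field F] [Finite F] [CharP F 2]
  (hG : IsCharacteristicTwoType G) (S : Sylow 2 G) {P : Subgroup G} (h : IsParS (S : Subgroup G) P)
  (M : NatK F (S : Subgroup G) P (zl (S : Subgroup G) P) (cv (S : Subgroup G) P) 1)

include hG h in
/-- **`s ∈ S` acts linearly iff it acts as some `up b`, trivially on `D`** -/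
theorem mem_SL_iff {s : G} (hs : s ∈ (S : Subgroup G)) : s ∈ SL M ↔ Semi M s 1 := by
  constructor
  · rintro ⟨-, b, hb⟩
    exact Semi.one_of_act fun v hv => hb.same hv
  · intro h1
    have hsP := h.le hs
    obtain ⟨φ, hφ, hadd, hnorm⟩ := RA.exists_phi M hsP
    have hV : ∀ x, ∃ v ∈ zl (S : Subgroup G) P, M.e v 0 = x := surj1
    -- `φ` is linear
    have hlin : ∀ (c : F) x, φ (c • x) = c • φ x := by
      intro c x
      obtain ⟨v, hv, rfl⟩ := hV x
      obtain ⟨w, hw, hw1⟩ := hV (c • M.e v 0)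
      rw [← hw1, ← hφ w hw, ← hφ v hv]
      exact h1 v hv w hw c hw1
    -- the iterates
    obtain ⟨n, hn⟩ := S.isPGroup' ⟨s, hs⟩
    have hn' : s ^ 2 ^ n = 1 := congrArg Subtype.val hn
    have hit : ∀ m : ℕ, ∀ v ∈ zl (S : Subgroup G) P, φ^[m] (M.e v 0) = M.e (s ^ m * v * (s ^ m)⁻¹) 0 := by
      intro m
      induction m with
      | zero => intro v _; simp
      | succ m ih =>
        intro v hv
        have h5 := conj_mem_zl (pow_mem hsP m) hv
        have e1 : s * (s ^ m * v * (s ^ m)⁻¹) * s⁻¹ = s ^ (m + 1) * v * (s ^ (m + 1))⁻¹ := by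
          rw [pow_succ']
          group
        rw [Function.iterate_succ_apply', ih v hv, ← hφ _ h5, e1]
    have hper : ∀ x, φ^[2 ^ n] x = x := by
      intro x
      obtain ⟨v, hv, rfl⟩ := hV x
      rw [hit _ v hv, hn']
      simp
    -- `φ` fixes the line
    obtain ⟨a, ha⟩ : ∃ a : F, φ ![1, 0] = ![a, 0] := by
      obtain ⟨v, hv, hv1⟩ := hV ![1, 0]
      obtain ⟨π, hπ⟩ := M.line s hs
      have h2 := hπ v hv 0
      rw [Subsingleton.elim (π 0) 0] at h2
      refine ⟨M.e (s * v * s⁻¹) 0 0, ?_⟩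
      rw [← hv1, ← hφ v hv]
      refine ext2 (by simp) ?_
      rw [h2.2 (by rw [hv1]; simp)]
      simp
    have hline : ∀ x : F, φ ![x, 0] = ![a * x, 0] := by
      intro x
      have e : (![x, 0] : Fin 2 → F) = x • ![1, 0] := by
        apply ext2
        · simp
        · simp
      rw [e, hlin, ha]
      apply ext2
      · simp [mul_comm]
      · simp
    have hpow : ∀ m : ℕ, ∀ x : F, φ^[m] ![x, 0] = ![a ^ m * x, 0] := by
      intro m
      induction m with
      | zero => intro x; simp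
      | succ m ih => intro x; rw [Function.iterate_succ_apply', ih, hline, pow_succ']; congr 1; ring
    have ha1 : a = 1 := by
      have h2 := hpow (2 ^ n) 1
      rw [hper] at h2
      have h3 : a ^ 2 ^ n = 1 := by simpa using (congrFun h2 0).symm
      have h4 : (a - 1) ^ 2 ^ n = 0 := by rw [sub_pow_char_pow, one_pow, h3, sub_self]
      exact sub_eq_zero.1 (pow_eq_zero_iff (by positivity) |>.1 h4)
    obtain ⟨b, hb⟩ := RA.exists_up_of_norm φ hadd (fun x => by rw [hline, ha1, one_mul]) hnorm ⟨n, hper⟩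
    obtain ⟨t, ht, htb⟩ := M.unip fun _ => b
    have htP := h.le ht
    have h2 : s * t⁻¹ ∈ kern M := by
      refine ⟨mul_mem hsP (inv_mem htP), fun v hv => e_ext ?_⟩
      have hu := conj_mem_zl (inv_mem htP) hv
      have h3 := hφ _ hu
      have h4 := (acts_inv M htP htb).1 v hv 0
      have e : s * t⁻¹ * v * (s * t⁻¹)⁻¹ = s * (t⁻¹ * v * t⁻¹⁻¹) * s⁻¹ := by group
      rw [e, h3, hb, h4, ap_ap_inv]
    have h3 := comm_of_quot hG S h M one_pos (mul_mem hs (inv_mem ht)) h2
    refine ⟨hs, b, hsP, fun v hv i => ?_, fun d hd => ?_⟩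
    · rw [Subsingleton.elim i 0, one1_same, hφ v hv, hb]
    · have h4 := h3 d (cv_le _ _ hd)
      have h5 := htb.2 d hd
      calc s * d = (s * t⁻¹) * (t * d) := by group
        _ = (s * t⁻¹) * (d * t) := by rw [h5]
        _ = ((s * t⁻¹) * d) * t := by group
        _ = (d * (s * t⁻¹)) * t := by rw [h4]
        _ = d * s := by group

/-- the field automorphism of `s ∈ S` -/
noncomputable def sg (s : ↥(S : Subgroup G)) : F ≃+* F := Classical.choose (Semi.exists (M := M) h.le s.2)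

theorem sg_spec (s : ↥(S : Subgroup G)) : Semi M (s : G) (sg S h M s) :=
  Classical.choose_spec (Semi.exists (M := M) h.le s.2)

/-- `S → Aut F` -/
noncomputable def sgHom : ↥(S : Subgroup G) →* (F ≃+* F) where
  toFun := sg S h M
  map_one' := Semi.unique (M := M) (one_mem P) (sg_spec S h M 1) (by
    exact Semi.one_of_act (s := (1 : G)) (A := 1) fun v _ => by rw [one_mul, inv_one, mul_one, ap_one])
  map_mul' s t := Semi.unique (M := M) (mul_mem (h.le s.2) (h.le t.2)) (sg_spec S h M (s * t))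
    (Semi.mul (M := M) (h.le t.2) (sg_spec S h M s) (sg_spec S h M t))

include hG in
theorem ker_sgHom : (sgHom S h M).ker = (SL M).subgroupOf (S : Subgroup G) := by
  ext s
  rw [MonoidHom.mem_ker, mem_subgroupOf, mem_SL_iff hG S h M s.2]
  constructor
  · intro h1
    have h2 := sg_spec S h M s
    have h3 : sg S h M s = 1 := h1
    rwa [h3] at h2
  · intro h1
    exact Semi.unique (M := M) (h.le s.2) (sg_spec S h M s) h1

include hG h in
/-- **`|S : SL| ≤ |Aut F|`** -/
theorem relIndex_SL_le : (SL M).relIndex (S : Subgroup G) ≤ Nat.card (F ≃+* F) := by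
  have h1 : (SL M).relIndex (S : Subgroup G) = (sgHom S h M).ker.index := by
    rw [ker_sgHom hG S h M]
    rfl
  have hfin : Finite (F ≃+* F) := Finite.of_injective (fun f : F ≃+* F => (f : F → F)) DFunLike.coe_injective
  rw [h1, index_ker]
  exact Nat.card_le_card_of_injective _ Subtype.val_injective

include hG h in
theorem two_pow_relIndex_SL_le : 2 ^ (SL M).relIndex (S : Subgroup G) ≤ Nat.card F :=
  (Nat.pow_le_pow_right (by norm_num) (relIndex_SL_le hG S h M)).trans (two_pow_card_aut_le F)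

end group

end Cfsg.Agent.Omega.NOThreeL.RF.GD
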