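import Cfsg.Agent.Omega.IId.ThmCQ.NsTor
import Cfsg.Agent.Omega.NOThreeL.RF.Min

/-!
# NO-3L, `R ∩ (A)`, `k = 1`, fields (`NsF`): the level of `V = V_P`

`M : NatK F S P V D 1`, `V = zl S P`, `D = cv S P`, `4 ≤ |F|` (`q : Sit F S P 1`), split or nonsplit.  `S₀ = LS M` = the elements
of `S` acting as an element of `SL₂(F)` on `V / D` (no field automorphism), `x_i(v) = M.e v 0 i`.

* `Zp M` = `Z⁺ = {v ∈ V | x₁(v) = 0} = C_V(S₀)` (`Zp_eq`); `D, Z ≤ Z⁺`; `S`, `N_P(S₀)` normalise `Z⁺`;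
* `Rt M = R` = the torus part of `Z⁺`: `Z⁺ = R × D` (`exists_rd`, `R_inf_D`), `R` covers the line (`exists_R`, `R_inj`);
* `eps M` = the projection of `Z⁺` onto `D` along `R` (`eps_*`), `S`-equivariant, constant under the torus;
* `tor` : `diag(t, t⁻¹)` is induced by an element of `P ∩ N(S₀)`, which centralises `D` and normalises `R`;
* `bet M s` : `s ∈ S₀` acts as `up (bet M s)` (`bet_act`, `bet_mul`, `bet_surj`, `bet_eq_zero`);
* **`exists_isG`** : there is an additive `g : F → D` with `[v, s] = (x₁(v) β(s), g(x₁(v)² β(s)))` (`IsG M g`).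
-/

set_option autoImplicit false
set_option linter.unusedSectionVars false
set_option linter.unusedVariables false

namespace Cfsg.Agent.Omega.NOThreeL.RF

open Subgroup Cfsg Cfsg.Agent.Omega.MinPar
open Cfsg.Agent.ZN (zc zl o2)
open Cfsg.Agent.Omega.Frame
open Cfsg.Agent.Omega.NoFF.Basic (conj_conj mem_conj conj_le_iff conj_le_centralizer comm_symm comm_mono)
open Cfsg.Agent.MinSimple.VModule (zl_le zc_le_zl le_normalizer_zl zc_le o2_isPGroup le_normalizer_o2 le_o2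
  normalizer_le_normalizer_zc mem_zc)
open Cfsg.Agent.Omega.NOThreeL (mem_normalizer_of_conj_eq le_normalizer_of)
open Cfsg.Agent.Omega.NOThreeL.RTools (cm cm_def conj_mem_of_mem)
open Cfsg.Agent.Omega.FFThm (NatK ActsSL)
open Cfsg.Agent.Omega.FrameFF (cv)
open Cfsg.Agent.Omega.HOne (cv_le conj_mem_zl conj_mem_cv)
open Cfsg.Agent.Omega.IId.Ns (Al Mv one1 one1_same one1_ne exists_omega)
open Cfsg.Agent.Omega.IId.ThmCQ.Nsp
open Cfsg.Agent.Lib.SL2Mat
open Cfsg.Agent.Omega.NatPair (ap ap_mul ap_one ap_inv_ap)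
open scoped Pointwise

universe u

variable {G : Type u} [Group G] [Finite G] {F : Type} [Field F] [Finite F] [CharP F 2] {S : Sylow 2 G} {P : Subgroup G}

section defs

variable (M : NatK F (S : Subgroup G) P (zl (S : Subgroup G) P) (cv (S : Subgroup G) P) 1)

/-- `Z⁺` = the vectors on the line -/
def Zp : Subgroup G where
  carrier := {v | v ∈ zl (S : Subgroup G) P ∧ M.e v 0 1 = 0}
  one_mem' := ⟨one_mem _, by rw [IId.Cv.e_one M]; rfl⟩
  mul_mem' := by
    rintro a b ⟨ha, h1⟩ ⟨hb, h2⟩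
    refine ⟨mul_mem ha hb, ?_⟩
    rw [M.mul a ha b hb, Pi.add_apply, Pi.add_apply, h1, h2, add_zero]
  inv_mem' := by
    rintro a ⟨ha, h1⟩
    refine ⟨inv_mem ha, ?_⟩
    rw [IId.Cv.e_inv M ha, Pi.neg_apply, Pi.neg_apply, h1, neg_zero]

/-- `R`: the torus part of `Z⁺` -/
def Rt : Subgroup G := Zf M 0

/-- the projection of `Z⁺` onto `D` along `R` -/
noncomputable def eps (z : G) : G := by
  classical
  exact if h : ∃ d ∈ cv (S : Subgroup G) P, z * d ∈ Rt M then h.choose else 1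

/-- `s ∈ S₀` acts as `up (bet M s)` -/
noncomputable def bet (s : G) : F := by
  classical
  exact if h : ∃ b : F, ActsSL M.e (zl (S : Subgroup G) P) (cv (S : Subgroup G) P) s fun _ => up b then h.choose else 0

/-- `[v, s] = (x₁(v) β(s), g(x₁(v)² β(s)))` -/
structure IsG (g : F → G) : Prop where
  mem : ∀ x, g x ∈ cv (S : Subgroup G) P
  add : ∀ x y, g (x + y) = g x * g y
  br : ∀ v ∈ zl (S : Subgroup G) P, ∀ s ∈ LS M, eps M (cm v s) = g ((M.e v 0 1) ^ 2 * bet M s)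

end defs

section alg

variable {M : NatK F (S : Subgroup G) P (zl (S : Subgroup G) P) (cv (S : Subgroup G) P) 1}

theorem mem_Zp {v : G} : v ∈ Zp M ↔ v ∈ zl (S : Subgroup G) P ∧ M.e v 0 1 = 0 := Iff.rfl

theorem Zp_le : Zp M ≤ zl (S : Subgroup G) P := fun _ h => h.1

theorem LV_iff {v : G} : v ∈ LV M ↔ v ∈ Zp M :=
  ⟨fun h => ⟨h.1, h.2 0⟩, fun h => ⟨h.1, fun l => by rw [Fin.eq_zero l]; exact h.2⟩⟩

theorem two_eq (x : F) : x + x = 0 := CharTwo.add_self_eq_zero x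

theorem e_add {v w : G} (hv : v ∈ zl (S : Subgroup G) P) (hw : w ∈ zl (S : Subgroup G) P) (i : Fin 2) :
    M.e (v * w) 0 i = M.e v 0 i + M.e w 0 i := by rw [M.mul v hv w hw]; rfl

theorem e_inv' {v : G} (hv : v ∈ zl (S : Subgroup G) P) (i : Fin 2) : M.e v⁻¹ 0 i = M.e v 0 i := by
  rw [IId.Cv.e_inv M hv, Pi.neg_apply, Pi.neg_apply, CharTwo.neg_eq]

theorem mem_D {v : G} (hv : v ∈ zl (S : Subgroup G) P) :
    v ∈ cv (S : Subgroup G) P ↔ M.e v 0 0 = 0 ∧ M.e v 0 1 = 0 := by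
  rw [← M.ker v hv]
  constructor
  · intro h
    rw [h]
    exact ⟨rfl, rfl⟩
  · rintro ⟨h0, h1⟩
    funext l
    rw [Fin.eq_zero l]
    exact NatPair.ext2 h0 h1

theorem e_D {d : G} (hd : d ∈ cv (S : Subgroup G) P) (i : Fin 2) : M.e d 0 i = 0 := by
  rw [IId.Cv.e_cv M hd]; rfl

theorem D_le_Zp : cv (S : Subgroup G) P ≤ Zp M := fun d hd => ⟨cv_le _ _ hd, e_D hd 1⟩

theorem one1_eq (B : Matrix.SpecialLinearGroup (Fin 2) F) : one1 (0 : Fin 1) B = fun _ => B := by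
  funext l
  rw [Fin.eq_zero l, one1_same]

theorem Al_iff {x : G} {B : Matrix.SpecialLinearGroup (Fin 2) F} : Al M 0 x B ↔
    x ∈ P ∧ ActsSL M.e (zl (S : Subgroup G) P) (cv (S : Subgroup G) P) x fun _ => B := by
  rw [Al, one1_eq]

theorem bet_act {s : G} (h : ∃ b : F, ActsSL M.e (zl (S : Subgroup G) P) (cv (S : Subgroup G) P) s fun _ => up b) :
    ActsSL M.e (zl (S : Subgroup G) P) (cv (S : Subgroup G) P) s fun _ => up (bet M s) := by
  classical
  rw [bet, dif_pos h]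
  exact h.choose_spec

theorem up_inj' {b c : F} (h : (up b : Matrix.SpecialLinearGroup (Fin 2) F) = up c) : b = c := by
  have := congrArg (fun A => ent A 0 1) h
  simpa using this

theorem bet_eq {s : G} {b : F} (h : ActsSL M.e (zl (S : Subgroup G) P) (cv (S : Subgroup G) P) s fun _ => up b) :
    bet M s = b := by
  have h1 := acts_unique (M := M) (bet_act ⟨b, h⟩) h
  exact up_inj' (congrFun h1 0)

end alg

section main

variable {M : NatK F (S : Subgroup G) P (zl (S : Subgroup G) P) (cv (S : Subgroup G) P) 1} (q : Sit F S P 1)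
include q

theorem Zp_zc : Zp M ≤ zc (LS M) := fun v hv => LV_le_zc q (LV_iff.2 hv)

theorem Zp_comm {z s : G} (hz : z ∈ Zp M) (hs : s ∈ LS M) : s * z = z * s := (mem_zc.1 (Zp_zc q hz)).2.1 s hs

theorem Zp_eq : Zp M = zl (S : Subgroup G) P ⊓ centralizer (LS M : Set G) := by
  apply le_antisymm
  · intro z hz
    exact mem_inf.2 ⟨hz.1, mem_centralizer_iff.2 fun s hs => Zp_comm q hz hs⟩
  · intro z hz
    exact LV_iff.1 (mem_LV_of_cent q (mem_inf.1 hz).1 fun s hs => mem_centralizer_iff.1 (mem_inf.1 hz).2 s hs)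

theorem Z_le_Zp : zc (S : Subgroup G) ≤ Zp M := fun z hz => LV_iff.1 (zc_S_le q hz)

theorem R_le_Zp : Rt M ≤ Zp M := fun z hz => LV_iff.1 (Zf_LV q hz)

theorem R_le_V : Rt M ≤ zl (S : Subgroup G) P := (R_le_Zp q).trans Zp_le

theorem sqV' {v : G} (hv : v ∈ zl (S : Subgroup G) P) : v * v = 1 := V_sq q hv

theorem invV {v : G} (hv : v ∈ zl (S : Subgroup G) P) : v⁻¹ = v := inv_eq_of_mul_eq_one_left (V_sq q hv)

theorem P_norm_V : P ≤ normalizer (zl (S : Subgroup G) P : Set G) := le_normalizer_zl _ _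

theorem norm_Zp {x : G} (hx : x ∈ P) (hxN : x ∈ normalizer (LS M : Set G)) {z : G} (hz : z ∈ Zp M) :
    x * z * x⁻¹ ∈ Zp M := LV_iff.1 (norm_LV q hx hxN (LV_iff.2 hz))

theorem S_norm_Zp : (S : Subgroup G) ≤ normalizer (Zp M : Set G) :=
  le_normalizer_of fun s hs z hz => norm_Zp q (q.h.le hs) (S_le_normalizer_LS q.h.le hs) hz

theorem Mv0 {g : G} (hg : g ∈ P) : Mv M g 0 0 := by
  obtain ⟨j, hj⟩ := IId.Ns.exists_Mv (M := M) hg 0
  rwa [Fin.eq_zero j] at hj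

theorem S_norm_R : (S : Subgroup G) ≤ normalizer (Rt M : Set G) :=
  le_normalizer_of fun s hs z hz => (conj_Zf_S q hs (Mv0 q (q.h.le hs))).1 hz

/-- upper triangular elements normalise `R` -/
theorem tri_norm_R {x : G} (hx : x ∈ P) {B : Matrix.SpecialLinearGroup (Fin 2) F} (hB : ent B 1 0 = 0)
    (hA : ActsSL M.e (zl (S : Subgroup G) P) (cv (S : Subgroup G) P) x fun _ => B) {z : G} (hz : z ∈ Rt M) :
    x * z * x⁻¹ ∈ Rt M := conj_Zf_Al q (Al_iff.2 ⟨hx, hA⟩) hB hz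

theorem R_inf_D {z : G} (hz : z ∈ Rt M) (hD : z ∈ cv (S : Subgroup G) P) : z = 1 :=
  eq_one_of_Zf q hz (e_D hD 0)

theorem R_eq_one {z : G} (hz : z ∈ Rt M) (h0 : M.e z 0 0 = 0) : z = 1 := eq_one_of_Zf q hz h0

theorem R_inj {z w : G} (hz : z ∈ Rt M) (hw : w ∈ Rt M) (h0 : M.e z 0 0 = M.e w 0 0) : z = w := Zf_inj q hz hw h0

theorem exists_R (c : F) : ∃ z ∈ Rt M, M.e z 0 0 = c := by
  obtain ⟨z, hz, h⟩ := exists_Zf q (M := M) 0 c
  exact ⟨z, hz, by rw [h]; rfl⟩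

/-- `Z⁺ = R × D` -/
theorem exists_rd {z : G} (hz : z ∈ Zp M) : ∃ r ∈ Rt M, ∃ d ∈ cv (S : Subgroup G) P, z = r * d := by
  obtain ⟨r, hr, h⟩ := exists_R (M := M) q (M.e z 0 0)
  refine ⟨r, hr, r⁻¹ * z, ?_, by group⟩
  have hrV := R_le_V q hr
  rw [mem_D (M := M) (mul_mem (inv_mem hrV) hz.1), e_add (inv_mem hrV) hz.1, e_add (inv_mem hrV) hz.1, e_inv' hrV,
    e_inv' hrV, h, two_eq, hz.2, (R_le_Zp q hr).2, two_eq]
  exact ⟨rfl, rfl⟩

/-! ### the projection -/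

theorem eps_spec {z : G} (hz : z ∈ Zp M) : eps M z ∈ cv (S : Subgroup G) P ∧ z * eps M z ∈ Rt M := by
  classical
  have h : ∃ d ∈ cv (S : Subgroup G) P, z * d ∈ Rt M := by
    obtain ⟨r, hr, d, hd, h⟩ := exists_rd q hz
    refine ⟨d, hd, ?_⟩
    rw [h, mul_assoc, V_sq q (cv_le _ _ hd), mul_one]
    exact hr
  rw [eps, dif_pos h]
  exact h.choose_spec

theorem eps_mem {z : G} (hz : z ∈ Zp M) : eps M z ∈ cv (S : Subgroup G) P := (eps_spec q hz).1

theorem mul_eps {z : G} (hz : z ∈ Zp M) : z * eps M z ∈ Rt M := (eps_spec q hz).2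

theorem eps_eq {z d : G} (hz : z ∈ Zp M) (hd : d ∈ cv (S : Subgroup G) P) (h : z * d ∈ Rt M) : eps M z = d := by
  have h1 := mul_eps q hz
  have h2 := eps_mem q hz
  have h3 : (z * eps M z)⁻¹ * (z * d) = (eps M z)⁻¹ * d := by group
  have h4 : (eps M z)⁻¹ * d = 1 := R_inf_D q (h3 ▸ mul_mem (inv_mem h1) h) (mul_mem (inv_mem h2) hd)
  exact inv_mul_eq_one.1 h4

theorem eps_D {d : G} (hd : d ∈ cv (S : Subgroup G) P) : eps M d = d :=
  eps_eq q (D_le_Zp hd) hd (by rw [V_sq q (cv_le _ _ hd)]; exact one_mem _)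

theorem eps_R {r : G} (hr : r ∈ Rt M) : eps M r = 1 :=
  eps_eq q (R_le_Zp q hr) (one_mem _) (by rwa [mul_one])

theorem eps_one : eps M 1 = 1 := eps_R q (one_mem _)

theorem eps_mul {z w : G} (hz : z ∈ Zp M) (hw : w ∈ Zp M) : eps M (z * w) = eps M z * eps M w := by
  refine eps_eq q (mul_mem hz hw) (mul_mem (eps_mem q hz) (eps_mem q hw)) ?_
  have h1 : w * eps M z = eps M z * w := V_comm q hw.1 (cv_le _ _ (eps_mem q hz))
  have h2 : z * w * (eps M z * eps M w) = (z * eps M z) * (w * eps M w) := by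
    calc z * w * (eps M z * eps M w) = z * (w * eps M z) * eps M w := by group
      _ = z * (eps M z * w) * eps M w := by rw [h1]
      _ = _ := by group
  rw [h2]
  exact mul_mem (mul_eps q hz) (mul_eps q hw)

theorem eps_eq_one {z : G} (hz : z ∈ Zp M) : eps M z = 1 ↔ z ∈ Rt M := by
  refine ⟨fun h => ?_, fun h => eps_R q h⟩
  have := mul_eps q hz
  rwa [h, mul_one] at this

/-- elements of `Z⁺` are determined by `x₀` and `ε` -/
theorem eq_of_coord {z w : G} (hz : z ∈ Zp M) (hw : w ∈ Zp M) (h0 : M.e z 0 0 = M.e w 0 0) (h1 : eps M z = eps M w) :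
    z = w := by
  have hzD := cv_le _ _ (eps_mem q hz)
  have h2 : z * eps M z = w * eps M w := by
    refine R_inj q (mul_eps q hz) (mul_eps q hw) ?_
    rw [e_add hz.1 hzD, e_add hw.1 (cv_le _ _ (eps_mem q hw)), h0, h1]
  rw [h1] at h2
  exact mul_right_cancel h2

/-- equivariance -/
theorem eps_conj {g : G} (hg : g ∈ P) (hgR : ∀ r ∈ Rt M, g * r * g⁻¹ ∈ Rt M) {z : G} (hz : z ∈ Zp M)
    (hz' : g * z * g⁻¹ ∈ Zp M) : eps M (g * z * g⁻¹) = g * eps M z * g⁻¹ := by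
  refine eps_eq q hz' (conj_mem_cv hg (eps_mem q hz)) ?_
  have h2 : g * z * g⁻¹ * (g * eps M z * g⁻¹) = g * (z * eps M z) * g⁻¹ := by group
  rw [h2]
  exact hgR _ (mul_eps q hz)

theorem eps_S {s : G} (hs : s ∈ (S : Subgroup G)) {z : G} (hz : z ∈ Zp M) :
    eps M (s * z * s⁻¹) = s * eps M z * s⁻¹ :=
  eps_conj q (q.h.le hs) (fun r hr => (conj_Zf_S q hs (Mv0 q (q.h.le hs))).1 hr) hz
    (conj_mem_of_mem (S_norm_Zp q hs) hz)

/-! ### the torus -/

/-- the torus elements -/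
theorem tor {t : F} (ht : t ≠ 0) : ∃ x ∈ P, x ∈ normalizer (LS M : Set G) ∧
    ActsSL M.e (zl (S : Subgroup G) P) (cv (S : Subgroup G) P) x fun _ => dg t ht :=
  exists_norm q (fun _ => dg t ht) fun _ => by simp

/-- elements of `SL₂(F)` type normalising `Z⁺` do not change `ε` -/
theorem eps_tri {x : G} (hx : x ∈ P) (hxN : x ∈ normalizer (LS M : Set G))
    {B : Matrix.SpecialLinearGroup (Fin 2) F}
    (hA : ActsSL M.e (zl (S : Subgroup G) P) (cv (S : Subgroup G) P) x fun _ => B) {z : G} (hz : z ∈ Zp M) :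
    eps M (x * z * x⁻¹) = eps M z := by
  have hB := tri_of_norm q hx hxN hA 0
  rw [eps_conj q hx (fun r hr => tri_norm_R q hx hB hA hr) hz (norm_Zp q hx hxN hz), hA.2 _ (eps_mem q hz)]
  group

/-! ### `β` -/

theorem bet_LS {s : G} (hs : s ∈ LS M) :
    ActsSL M.e (zl (S : Subgroup G) P) (cv (S : Subgroup G) P) s fun _ => up (bet M s) := by
  obtain ⟨b, hb⟩ := exists_b q.h.le hs
  refine bet_act ⟨b 0, ?_⟩
  have h1 : (fun i => up (b i)) = fun _ : Fin 1 => (up (b 0) : Matrix.SpecialLinearGroup (Fin 2) F) := by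
    funext i
    rw [Fin.eq_zero i]
  rwa [h1] at hb

theorem bet_mul {s t : G} (hs : s ∈ LS M) (ht : t ∈ LS M) : bet M (s * t) = bet M s + bet M t := by
  refine bet_eq ?_
  have h1 := IId.Ns.acts_mul M (q.h.le hs.1) (q.h.le ht.1) (bet_LS q hs) (bet_LS q ht)
  rwa [show (fun _ : Fin 1 => up (bet M s) * up (bet M t)) = fun _ => up (bet M s + bet M t) from
    funext fun _ => up_mul _ _] at h1

theorem bet_one : bet M 1 = 0 := by
  refine bet_eq ?_
  rw [up_zero]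
  exact IId.Ns.acts_one M

theorem bet_surj (b : F) : ∃ s ∈ LS M, bet M s = b := by
  obtain ⟨t, ht, h⟩ := M.unip fun _ => b
  exact ⟨t, mem_LS q.h.le ht h, bet_eq h⟩

/-- `β(s) = 0` iff `s` centralises `V` -/
theorem bet_eq_zero {s : G} (hs : s ∈ LS M) :
    bet M s = 0 ↔ s ∈ centralizer (zl (S : Subgroup G) P : Set G) := by
  constructor
  · intro h
    have h1 := bet_LS q hs
    rw [h, up_zero] at h1
    have h2 := IId.Ns.same_V q.hG S q.h q.hk M (q.h.le hs.1) (one_mem P) h1 (IId.Ns.acts_one M)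
    rw [mem_centralizer_iff]
    intro v hv
    have h3 := h2 v hv
    rw [one_mul, inv_one, mul_one] at h3
    calc v * s = (s * v * s⁻¹) * s := by rw [h3]
      _ = s * v := by group
  · intro h
    refine bet_eq ?_
    rw [up_zero]
    refine ⟨fun v hv i => ?_, fun d hd => (mem_centralizer_iff.1 h d (cv_le _ _ hd)).symm⟩
    rw [← mem_centralizer_iff.1 h v hv, mul_inv_cancel_right, ap_one]

/-! ### the commutators -/

theorem V_LS : zl (S : Subgroup G) P ≤ LS M := V_le_LS q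

theorem e_cm {v s : G} (hv : v ∈ zl (S : Subgroup G) P) (hs : s ∈ LS M) :
    cm v s ∈ Zp M ∧ M.e (cm v s) 0 0 = M.e v 0 1 * bet M s := by
  have hsP := q.h.le hs.1
  have h1 : s * v⁻¹ * s⁻¹ ∈ zl (S : Subgroup G) P := conj_mem_zl hsP (inv_mem hv)
  have e1 : cm v s = v * (s * v⁻¹ * s⁻¹) := by rw [cm_def]; group
  have h2 := (bet_LS q hs).1 _ (inv_mem hv) 0
  have h3 : M.e (s * v⁻¹ * s⁻¹) 0 0 = M.e v 0 0 + bet M s * M.e v 0 1 := by
    rw [h2, IId.Ns.ap_up2, e_inv' hv, e_inv' hv]; rfl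
  have h4 : M.e (s * v⁻¹ * s⁻¹) 0 1 = M.e v 0 1 := by
    rw [h2, IId.Ns.ap_up2]
    change M.e v⁻¹ 0 1 = _
    rw [e_inv' hv]
  refine ⟨⟨?_, ?_⟩, ?_⟩
  · rw [e1]; exact mul_mem hv h1
  · rw [e1, e_add hv h1, h4, two_eq]
  · rw [e1, e_add hv h1, h3, ← add_assoc, two_eq, zero_add, mul_comm]

/-- `[v, s]` depends only on `x₁(v)` and on the action of `s` -/
theorem cm_congr {w w' x x' : G} (hw : w ∈ zl (S : Subgroup G) P) (hw' : w' ∈ zl (S : Subgroup G) P) (hx : x ∈ P)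
    (hx' : x' ∈ P) (h1 : M.e w 0 1 = M.e w' 0 1) {b : F}
    (hb : ActsSL M.e (zl (S : Subgroup G) P) (cv (S : Subgroup G) P) x fun _ => up b)
    (hb' : ActsSL M.e (zl (S : Subgroup G) P) (cv (S : Subgroup G) P) x' fun _ => up b) : cm w x = cm w' x' := by
  have h3 : ∀ y ∈ zl (S : Subgroup G) P, x * y * x⁻¹ = x' * y * x'⁻¹ :=
    IId.Ns.same_V q.hG S q.h q.hk M hx hx' hb hb'
  have h4 : w'⁻¹ * w ∈ Zp M := by
    refine ⟨mul_mem (inv_mem hw') hw, ?_⟩
    rw [e_add (inv_mem hw') hw, e_inv' hw', h1, two_eq]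
  set z := w'⁻¹ * w with hz
  have h5 : w = w' * z := by rw [hz]; group
  have h7 : x * z * x⁻¹ = z := comm_LV q hx hb (LV_iff.2 h4)
  have h7' : x * z⁻¹ * x⁻¹ = z⁻¹ := by
    calc x * z⁻¹ * x⁻¹ = (x * z * x⁻¹)⁻¹ := by group
      _ = z⁻¹ := by rw [h7]
  have h6 : cm w x = cm w' x := by
    rw [h5, cm_def, cm_def, mul_inv_rev]
    calc w' * z * x * (z⁻¹ * w'⁻¹) * x⁻¹ = w' * z * (x * z⁻¹ * x⁻¹) * x * w'⁻¹ * x⁻¹ := by group
      _ = w' * z * z⁻¹ * x * w'⁻¹ * x⁻¹ := by rw [h7']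
      _ = w' * x * w'⁻¹ * x⁻¹ := by group
  rw [h6]
  have h8 : cm w' x = w' * (x * w'⁻¹ * x⁻¹) := by rw [cm_def]; group
  have h9 : cm w' x' = w' * (x' * w'⁻¹ * x'⁻¹) := by rw [cm_def]; group
  rw [h8, h9, h3 _ (inv_mem hw')]

theorem exists_v1 : ∃ v ∈ zl (S : Subgroup G) P, M.e v 0 0 = 0 ∧ M.e v 0 1 = 1 := by
  obtain ⟨v, hv, h⟩ := M.surj fun _ => ![0, 1]
  exact ⟨v, hv, by rw [h]; rfl, by rw [h]; rfl⟩

/-- **`[v, s] = (x₁(v) β(s), g(x₁(v)² β(s)))`** -/
theorem exists_isG : ∃ g : F → G, IsG M g := by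
  classical
  obtain ⟨v1, hv1, -, he1⟩ := exists_v1 (M := M) q
  choose s hs hsβ using bet_surj (M := M) q
  refine ⟨fun x => eps M (cm v1 (s x)), fun x => eps_mem q (e_cm q hv1 (hs x)).1, fun x y => ?_, fun v hv u hu => ?_⟩
  · have hsx := hs x
    have hsy := hs y
    have h1 : cm v1 (s (x + y)) = cm v1 (s x * s y) := by
      refine cm_congr (M := M) q hv1 hv1 (q.h.le (hs _).1) (q.h.le (mul_mem hsx hsy).1) rfl (b := x + y) ?_ ?_
      · have := bet_LS q (hs (x + y))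
        rwa [hsβ] at this
      · have := bet_LS q (mul_mem hsx hsy)
        rwa [bet_mul q hsx hsy, hsβ, hsβ] at this
    have h2 : cm v1 (s x * s y) = cm v1 (s x) * cm v1 (s y) := by
      have h3 := (e_cm q hv1 hsy).1
      have h4 : s x * cm v1 (s y) = cm v1 (s y) * s x := Zp_comm q h3 hsx
      have e1 : cm v1 (s x * s y) = cm v1 (s x) * (s x * cm v1 (s y) * (s x)⁻¹) := by simp only [cm_def]; group
      rw [e1, h4, mul_inv_cancel_right]
    change eps M (cm v1 (s (x + y))) = eps M (cm v1 (s x)) * eps M (cm v1 (s y))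
    rw [h1, h2, eps_mul q (e_cm q hv1 hsx).1 (e_cm q hv1 hsy).1]
  · set c := M.e v 0 1 with hc
    by_cases hne : c = 0
    · -- `v ∈ Z⁺`
      have h1 : cm v u = 1 := by
        have h2 := Zp_comm q (⟨hv, hne⟩ : v ∈ Zp M) hu
        rw [cm_def, ← h2]; group
      have h0 : c ^ 2 * bet M u = 0 := by rw [hne, zero_pow two_ne_zero, zero_mul]
      have h2 : cm v1 (s 0) = 1 := by
        have h3 := cm_congr (M := M) q hv1 hv1 (q.h.le (hs 0).1) (one_mem P) rfl (b := 0) (by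
          have := bet_LS q (hs 0)
          rwa [hsβ] at this) (by rw [up_zero]; exact IId.Ns.acts_one M)
        rw [h3, cm_def]; group
      change eps M (cm v u) = eps M (cm v1 (s (c ^ 2 * bet M u)))
      rw [h0, h1, h2]
    · obtain ⟨t, htP, htN, hta⟩ := tor (M := M) q hne
      have h1 := (e_cm q hv hu).1
      have h2 : t * cm v u * t⁻¹ = cm (t * v * t⁻¹) (t * u * t⁻¹) := by simp only [cm_def]; group
      have hvt : t * v * t⁻¹ ∈ zl (S : Subgroup G) P := conj_mem_zl htP hv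
      have huP := q.h.le hu.1
      have h3 : cm (t * v * t⁻¹) (t * u * t⁻¹) = cm v1 (s (c ^ 2 * bet M u)) := by
        refine cm_congr (M := M) q hvt hv1 (mul_mem (mul_mem htP huP) (inv_mem htP)) (q.h.le (hs _).1) ?_
          (b := c ^ 2 * bet M u) ?_ ?_
        · rw [hta.1 v hv 0, NatPair.ap_one', dg_10, dg_11, zero_mul, zero_add, he1, ← hc, inv_mul_cancel₀ hne]
        · have h4 := IId.Ns.acts_mul M (mul_mem htP huP) (inv_mem htP) (IId.Ns.acts_mul M htP huP hta (bet_LS q hu))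
            (IId.Ns.acts_inv M htP hta)
          rwa [show (fun _ : Fin 1 => dg c hne * up (bet M u) * (dg c hne)⁻¹) = fun _ => up (c ^ 2 * bet M u) from
            funext fun _ => by rw [dg_up, mul_inv_cancel_right]] at h4
        · have := bet_LS q (hs (c ^ 2 * bet M u))
          rwa [hsβ] at this
      change eps M (cm v u) = eps M (cm v1 (s (c ^ 2 * bet M u)))
      rw [← h3, ← h2, eps_tri q htP htN hta h1]

end main

end Cfsg.Agent.Omega.NOThreeL.RF
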