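import Cfsg.Agent.Omega.NOThreeL.RF.GDMod
import Cfsg.Agent.Omega.FFMutual
import Cfsg.Agent.Lib.GoldschmidtFusion
import Cfsg.Agent.Lib.ProductSet

/-!
# NO-3L, `R ∩ (A)`, field automorphisms (NsF): (GD) of #21360 (helper71)

`q : Sit F S P 1`, `M : NatK F S P (zl S P) (cv S P) 1` (`4 ≤ |F|`, `P` acts on `V / D` as a group between `SL₂(F)` and
`ΓL₂(F)`, split or nonsplit), `PL M` = the elements of `P` acting as elements of `SL₂(F)` (trivially on `D`).

* **`le_o2_of_norm`** : a 2-subgroup `W` of `G` normalised by `PL M` is contained in `O₂(P)`;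
* **`gd`** : `1 ≠ x ∈ D` ⟹ `O₂(C(x)) ≤ O₂(P)`, `V ≤ O₂(C(x))`, `V` centralises `O₂(C(x))`;
  `gd'` : the same for `C(X)`, `1 ≠ X ≤ D`.
-/

set_option autoImplicit false
set_option linter.unusedSectionVars false
set_option linter.unusedVariables false

namespace Cfsg.Agent.Omega.NOThreeL.RF.GD

open Subgroup Cfsg Cfsg.Agent.Omega.MinPar
open Cfsg.Agent.ZN (zc zl o2 normalizer_le_normalizer_o2)
open Cfsg.Agent.ZN.ChoiceBase (cj card_cj)
open Cfsg.Agent.Omega.FrameFF Cfsg.Agent.Omega.FFThm Cfsg.Agent.Lib.SL2Mat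
open Cfsg.Agent.Omega.NatPair (ap ap_add ap_mul ap_one ap_inj ext2 ap_zero' ap_one' ap_inv_ap ap_ap_inv)
open Cfsg.Agent.Omega.HOne (cv_le conj_mem_zl conj_mem_cv)
open Cfsg.Agent.Omega.IId.Cv Cfsg.Agent.Omega.IId.Ns
open Cfsg.Agent.Omega.IId.ThmCQ.Nsp (Sit LS PL PL_le LS_le LS_isPGroup mem_LS exists_b S_le_normalizer_LS o2_le_LS
  exists_norm)
open Cfsg.Agent.MinSimple.VModule (zc_comm zc_sq zc_le mem_zc le_normalizer_o2 normalizer_le_normalizer_zc zc_le_zl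
  o2_isPGroup o2_le)

universe u

variable {G : Type u} [Group G] [Finite G] {F : Type} [Field F] [Finite F] [CharP F 2] {S : Sylow 2 G}
  {P : Subgroup G} {M : NatK F (S : Subgroup G) P (zl (S : Subgroup G) P) (cv (S : Subgroup G) P) 1}

section basic

theorem conj_mem {H : Subgroup G} {g x : G} (hg : g ∈ normalizer (H : Set G)) (hx : x ∈ H) : g * x * g⁻¹ ∈ H :=
  (mem_normalizer_iff.1 hg x).1 hx

theorem conj_mem' {H : Subgroup G} {g x : G} (hg : g ∈ normalizer (H : Set G)) (hx : x ∈ H) : g⁻¹ * x * g ∈ H := by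
  have := conj_mem (inv_mem hg) hx
  rwa [inv_inv] at this

theorem conj_cent {V : Subgroup G} {g w : G} (hg : g ∈ normalizer (V : Set G)) (hw : w ∈ centralizer (V : Set G)) :
    g * w * g⁻¹ ∈ centralizer (V : Set G) := by
  rw [mem_centralizer_iff] at hw ⊢
  intro v hv
  have h1 := hw _ (conj_mem' hg hv)
  calc v * (g * w * g⁻¹) = g * (g⁻¹ * v * g * w) * g⁻¹ := by group
    _ = g * (w * (g⁻¹ * v * g)) * g⁻¹ := by rw [h1]
    _ = _ := by group

variable (q : Sit F S P 1)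
include q

theorem P_norm : P ≤ normalizer (o2 P : Set G) := le_normalizer_o2 P

/-- a 2-element of `P` centralising `V` is in `O₂(P)` -/
theorem mem_o2_of_cent {w : G} (hw : w ∈ P) (h2 : ∃ n : ℕ, w ^ 2 ^ n = 1)
    (hc : w ∈ centralizer (zl (S : Subgroup G) P : Set G)) : w ∈ o2 P := by
  obtain ⟨n, hn⟩ := h2
  have hz : IsPGroup 2 (zpowers w) := by
    rintro ⟨x, j, rfl⟩
    refine ⟨n, Subtype.ext ?_⟩
    change (w ^ j) ^ 2 ^ n = 1
    rw [← zpow_natCast, ← zpow_mul, mul_comm, zpow_mul, zpow_natCast, hn, one_zpow]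
  obtain ⟨p, hp, h1⟩ := FFThm.exists_conj_le S q.h.le hz (zpowers_le.2 hw)
  have h2 : p * w * p⁻¹ ∈ (S : Subgroup G) := h1 ⟨w, mem_zpowers w, rfl⟩
  have h4 : p * w * p⁻¹ ∈ o2 P := by
    rw [← q.h.inf_centralizer S q.hG]
    exact mem_inf.2 ⟨h2, conj_cent (P_norm_V q hp) hc⟩
  exact (mem_normalizer_iff.1 (P_norm q hp) w).2 h4

/-- an element of `S₀` acting trivially is in `O₂(P)` -/
theorem mem_o2_of_bet {s : G} (hs : s ∈ LS M) (h0 : bet M s = 0) : s ∈ o2 P := by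
  rw [← q.h.inf_centralizer S q.hG]
  exact mem_inf.2 ⟨hs.1, (bet_eq_zero q hs).1 h0⟩

theorem bet_inv {s : G} (hs : s ∈ LS M) : bet M s⁻¹ = bet M s := by
  have h1 := bet_mul q hs (inv_mem hs)
  rw [mul_inv_cancel, bet_one q] at h1
  exact (CharTwo.add_eq_zero.1 h1.symm).symm

/-- two elements of `S₀` acting in the same way differ by an element of `O₂(P)` -/
theorem mem_o2_of_bet_eq {s t : G} (hs : s ∈ LS M) (ht : t ∈ LS M) (h : bet M s = bet M t) : s⁻¹ * t ∈ o2 P := by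
  refine mem_o2_of_bet (M := M) q (mul_mem (inv_mem hs) ht) ?_
  rw [bet_mul q (inv_mem hs) ht, bet_inv q hs, h, two_eq]

/-- a 2-subgroup of `P` normalised by the lifts is in `O₂(P)` -/
theorem inf_le_o2 {K : Subgroup G} (hK : IsPGroup 2 K) (hKP : K ≤ P) (hPK : PL M ≤ normalizer (K : Set G)) :
    K ≤ o2 P := by
  intro w hw
  have h1 := triv_of_norm S (M := M) hK hKP (i := 0) (fun w hw => Mv0 q (hKP hw)) (fun B => by
    obtain ⟨x, hx⟩ := exists_Al M 0 B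
    exact ⟨x, hx, fun w hw => conj_mem' (hPK ⟨hx.1, _, hx.2⟩) hw⟩) w hw
  obtain ⟨n, hn⟩ := hK ⟨w, hw⟩
  have hn' : w ^ 2 ^ n = 1 := congrArg Subtype.val hn
  have h2 := comm_of_quot_two q.hG S q.h M q.hk (u := w) ⟨hKP hw, fun v hv => e_ext (h1 v hv)⟩ ⟨n, hn'⟩
  exact mem_o2_of_cent q (hKP hw) ⟨n, hn'⟩ (mem_centralizer_iff.2 fun v hv => (h2 v hv).symm)

omit q in
theorem exists_sqrt (x : F) : ∃ t : F, t ^ 2 = x := by
  have : Fact (Nat.Prime 2) := ⟨Nat.prime_two⟩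
  obtain ⟨t, ht⟩ := Finite.surjective_of_injective (frobenius_inj F 2) x
  exact ⟨t, ht⟩

end basic

/-! ### The action on `W₁ O₂(P) / O₂(P)` -/

section one

/-- `[s, W₁] ≤ O₂(P)` -/
def Tr (P W₁ : Subgroup G) (s : G) : Prop := ∀ w ∈ W₁, w⁻¹ * (s * w * s⁻¹) ∈ o2 P

variable {W₁ : Subgroup G}

theorem Tr.mul {s t : G} (hs : Tr P W₁ s) (ht : Tr P W₁ t) (hsP : s ∈ P) : Tr P W₁ (s * t) := by
  intro w hw
  have h1 := conj_mem (le_normalizer_o2 P hsP) (ht w hw)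
  have e : w⁻¹ * (s * t * w * (s * t)⁻¹) = w⁻¹ * (s * w * s⁻¹) * (s * (w⁻¹ * (t * w * t⁻¹)) * s⁻¹) := by group
  rw [e]
  exact mul_mem (hs w hw) h1

theorem Tr.of_o2 (hW : W₁ ≤ normalizer (o2 P : Set G)) {z : G} (hz : z ∈ o2 P) : Tr P W₁ z := by
  intro w hw
  have e : w⁻¹ * (z * w * z⁻¹) = w⁻¹ * z * w * z⁻¹ := by group
  rw [e]
  exact mul_mem (conj_mem' (hW hw) hz) (inv_mem hz)

theorem Tr.conj {s g : G} (hs : Tr P W₁ s) (hg : g ∈ P) (hgW : g ∈ normalizer (W₁ : Set G)) :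
    Tr P W₁ (g * s * g⁻¹) := by
  intro w hw
  have h1 := conj_mem (le_normalizer_o2 P hg) (hs _ (conj_mem' hgW hw))
  have e : w⁻¹ * (g * s * g⁻¹ * w * (g * s * g⁻¹)⁻¹) =
      g * ((g⁻¹ * w * g)⁻¹ * (s * (g⁻¹ * w * g) * s⁻¹)) * g⁻¹ := by group
  rw [e]
  exact h1

variable (q : Sit F S P 1) (h2 : IsPGroup 2 W₁) (hN : W₁ ≤ normalizer (o2 P : Set G))
  (hPW : PL M ≤ normalizer (W₁ : Set G))
include q h2 hN hPW

/-- `|W₁ : W₁ ∩ O₂(P)| ≤ |S : S₀|` -/
theorem relIndex_le (hWP : W₁ ⊓ P ≤ o2 P) : (o2 P).relIndex W₁ ≤ (LS M).relIndex (S : Subgroup G) := by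
  have hLW : LS M ≤ normalizer (W₁ : Set G) := inf_le_right.trans hPW
  have hT : IsPGroup 2 (W₁ ⊔ LS M : Subgroup G) := IsPGroup.to_sup_of_normal_left' h2 LS_isPGroup hLW
  have hTN : W₁ ⊔ LS M ≤ normalizer (o2 P : Set G) :=
    sup_le hN ((LS_le (M := M)).trans (q.h.le.trans (le_normalizer_o2 P)))
  obtain ⟨n, -, hn⟩ := FFThm.exists_conj_le S (q.h.le.trans (le_normalizer_o2 P)) hT hTN
  have h3 : Nat.card (W₁ ⊔ LS M : Subgroup G) ≤ Nat.card (S : Subgroup G) := by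
    rw [← card_cj n]
    exact Nat.card_le_card_of_injective _ (inclusion_injective hn)
  have h4 : W₁ ⊓ LS M = o2 P ⊓ W₁ := by
    apply le_antisymm
    · exact le_inf ((inf_le_inf_left _ ((LS_le (M := M)).trans q.h.le)).trans hWP) inf_le_left
    · exact le_inf inf_le_right (inf_le_left.trans (o2_le_LS q))
  have h5 := Lib.ProductSet.card_mul_card_inf W₁ (LS M)
  rw [← coe_mul_of_right_le_normalizer_left _ _ hLW, h4] at h5
  have h6 : Nat.card ↥(o2 P ⊓ W₁) * (o2 P).relIndex W₁ = Nat.card W₁ := by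
    rw [← inf_relIndex_right, relIndex, ← Nat.card_congr (subgroupOfEquivOfLe (inf_le_right : o2 P ⊓ W₁ ≤ W₁)).toEquiv]
    exact card_mul_index _
  have h7 : Nat.card (LS M) * (LS M).relIndex (S : Subgroup G) = Nat.card (S : Subgroup G) := by
    rw [relIndex, ← Nat.card_congr (subgroupOfEquivOfLe (LS_le (M := M))).toEquiv]
    exact card_mul_index _
  have hp1 : 0 < Nat.card ↥(o2 P ⊓ W₁) := Nat.card_pos
  have hp2 : 0 < Nat.card (LS M) := Nat.card_pos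
  have h8 : Nat.card (W₁ ⊔ LS M : Subgroup G) * Nat.card ↥(o2 P ⊓ W₁) = Nat.card W₁ * Nat.card (LS M) := h5
  rw [← h6] at h8
  have h9 : Nat.card ↥(o2 P ⊓ W₁) * Nat.card (LS M) * (o2 P).relIndex W₁ ≤
      Nat.card ↥(o2 P ⊓ W₁) * Nat.card (LS M) * (LS M).relIndex (S : Subgroup G) := by
    calc Nat.card ↥(o2 P ⊓ W₁) * Nat.card (LS M) * (o2 P).relIndex W₁
        = Nat.card (W₁ ⊔ LS M : Subgroup G) * Nat.card ↥(o2 P ⊓ W₁) := by rw [h8]; ring
      _ ≤ Nat.card (S : Subgroup G) * Nat.card ↥(o2 P ⊓ W₁) := Nat.mul_le_mul_right _ h3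
      _ = _ := by rw [← h7]; ring
  exact Nat.le_of_mul_le_mul_left h9 (Nat.mul_pos hp1 hp2)

/-- **`[S₀, W₁] ≤ O₂(P)`** -/
theorem tr_LS (hWP : W₁ ⊓ P ≤ o2 P) {s : G} (hs : s ∈ LS M) : Tr P W₁ s := by
  by_contra hcon
  have hLW : LS M ≤ normalizer (W₁ : Set G) := inf_le_right.trans hPW
  -- `Tr` is trivial on `S₀`
  have hfaith : ∀ t ∈ LS M, Tr P W₁ t → bet M t = 0 := by
    intro t ht htT
    by_contra hb
    apply hcon
    by_cases hs0 : bet M s = 0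
    · exact Tr.of_o2 hN (mem_o2_of_bet q hs hs0)
    obtain ⟨l, hl⟩ := exists_sqrt (bet M s / bet M t)
    have hl0 : l ≠ 0 := by
      rintro rfl
      rw [zero_pow two_ne_zero] at hl
      exact (div_ne_zero hs0 hb) hl.symm
    obtain ⟨x, hxP, hxN, hx⟩ := tor (M := M) q hl0
    have htP := q.h.le ht.1
    have h4 := IId.Ns.acts_mul M (mul_mem hxP htP) (inv_mem hxP) (IId.Ns.acts_mul M hxP htP hx (bet_LS q ht))
      (IId.Ns.acts_inv M hxP hx)
    rw [show (fun _ : Fin 1 => dg l hl0 * up (bet M t) * (dg l hl0)⁻¹) = fun _ => up (l ^ 2 * bet M t) from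
      funext fun _ => by rw [dg_up, mul_inv_cancel_right]] at h4
    have h5 : x * t * x⁻¹ ∈ LS M := conj_mem hxN ht
    have h6 : bet M (x * t * x⁻¹) = bet M s := by
      rw [bet_eq h4, hl, div_mul_cancel₀ _ hb]
    have h7 := mem_o2_of_bet_eq q h5 hs h6
    have h8 : Tr P W₁ (x * t * x⁻¹) := htT.conj hxP (hPW ⟨hxP, _, hx⟩)
    have h9 := h8.mul (Tr.of_o2 hN h7) (q.h.le h5.1)
    rwa [mul_inv_cancel_left] at h9
  -- the action
  choose sb hsb hbet using bet_surj (M := M) q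
  let Ω := ↥W₁ ⧸ (o2 P).subgroupOf W₁
  have hmk : ∀ a b : ↥W₁, (QuotientGroup.mk a : Ω) = QuotientGroup.mk b ↔ (a : G)⁻¹ * b ∈ o2 P := by
    intro a b
    rw [QuotientGroup.eq, mem_subgroupOf]
    rfl
  let fm : F → ↥W₁ → ↥W₁ := fun b w => ⟨sb b * w * (sb b)⁻¹, conj_mem (hLW (hsb b)) w.2⟩
  let f : F → Ω → Ω := fun b => Quotient.map' (fm b) (by
    intro a a' haa
    rw [QuotientGroup.leftRel_apply, mem_subgroupOf] at haa ⊢
    show (sb b * (a : G) * (sb b)⁻¹)⁻¹ * (sb b * (a' : G) * (sb b)⁻¹) ∈ o2 P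
    have h1 := conj_mem (le_normalizer_o2 P (q.h.le (hsb b).1)) haa
    have e : (sb b * (a : G) * (sb b)⁻¹)⁻¹ * (sb b * (a' : G) * (sb b)⁻¹) = sb b * ((a : G)⁻¹ * a') * (sb b)⁻¹ := by
      group
    rw [e]
    exact h1)
  have hf : ∀ b w, f b (QuotientGroup.mk w) = QuotientGroup.mk (fm b w) := fun b w => rfl
  let act : MulAction (Multiplicative F) Ω :=
    { smul := fun b => f b.toAdd
      one_smul := by
        intro ω
        obtain ⟨w, rfl⟩ := QuotientGroup.mk_surjective ω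
        show f 0 _ = _
        rw [hf, eq_comm, hmk]
        exact Tr.of_o2 hN (mem_o2_of_bet q (hsb 0) (hbet 0)) w w.2
      mul_smul := by
        intro a b ω
        obtain ⟨w, rfl⟩ := QuotientGroup.mk_surjective ω
        show f (a.toAdd + b.toAdd) _ = f a.toAdd (f b.toAdd _)
        rw [hf, hf, hf, hmk]
        set x := a.toAdd
        set y := b.toAdd
        show (sb (x + y) * (w : G) * (sb (x + y))⁻¹)⁻¹ * (sb x * (sb y * (w : G) * (sb y)⁻¹) * (sb x)⁻¹) ∈ o2 P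
        have h1 : (sb (x + y))⁻¹ * (sb x * sb y) ∈ o2 P := by
          refine mem_o2_of_bet_eq q (hsb _) (mul_mem (hsb _) (hsb _)) ?_
          rw [bet_mul q (hsb _) (hsb _), hbet, hbet, hbet]
        have h3 := conj_mem (le_normalizer_o2 P (q.h.le (hsb (x + y)).1)) (Tr.of_o2 hN h1 w w.2)
        have e : (sb (x + y) * (w : G) * (sb (x + y))⁻¹)⁻¹ * (sb x * (sb y * (w : G) * (sb y)⁻¹) * (sb x)⁻¹) =
            sb (x + y) * ((w : G)⁻¹ * ((sb (x + y))⁻¹ * (sb x * sb y) * w * ((sb (x + y))⁻¹ * (sb x * sb y))⁻¹)) *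
              (sb (x + y))⁻¹ := by group
        rw [e]
        exact h3 }
  have : Nonempty Ω := ⟨QuotientGroup.mk 1⟩
  have h3 := card_lt_two_pow (E := Multiplicative F) (Ω := Ω) (by
    intro e he
    have h4 : Tr P W₁ (sb e.toAdd) := by
      intro w hw
      have h5 : f e.toAdd (QuotientGroup.mk ⟨w, hw⟩) = QuotientGroup.mk ⟨w, hw⟩ := he _
      rw [hf, eq_comm, hmk] at h5
      exact h5
    have h5 := hfaith _ (hsb _) h4
    rw [hbet] at h5
    exact congrArg Multiplicative.ofAdd h5)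
  have h4 : Nat.card Ω = (o2 P).relIndex W₁ := rfl
  have h5 : Nat.card (Multiplicative F) = Nat.card F := Nat.card_congr Multiplicative.toAdd
  have h6 := relIndex_le q h2 hN hPW hWP
  have h7 : SL M = LS M := by
    ext s
    constructor
    · rintro ⟨hsS, b, hb⟩
      exact mem_LS q.h.le hsS hb.2
    · intro hs
      exact ⟨hs.1, bet M s, Al_iff.2 ⟨q.h.le hs.1, bet_LS q hs⟩⟩
  have h8 := two_pow_relIndex_SL_le q.hG S q.h M
  rw [h7] at h8
  rw [h4, h5] at h3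
  exact absurd (h3.trans_le (Nat.pow_le_pow_right (by norm_num) h6)) (not_lt.2 h8)

/-- all lifts -/
theorem exists_tr (hWP : W₁ ⊓ P ≤ o2 P) (B : Matrix.SpecialLinearGroup (Fin 2) F) :
    ∃ x, Al M 0 x B ∧ Tr P W₁ x := by
  have hup : ∀ c : F, ∃ x, Al M 0 x (up c) ∧ Tr P W₁ x := by
    intro c
    obtain ⟨t, ht, htc⟩ := M.unip fun _ => c
    exact ⟨t, Al_iff.2 ⟨q.h.le ht, htc⟩, tr_LS q h2 hN hPW hWP (mem_LS q.h.le ht htc)⟩
  have hlo : ∀ c : F, ∃ x, Al M 0 x (lo c) ∧ Tr P W₁ x := by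
    intro c
    obtain ⟨x, hx, hxT⟩ := hup (-c)
    obtain ⟨n, hn⟩ := exists_Al M 0 (wm (1 : F) one_ne_zero)
    refine ⟨n * x * n⁻¹, ((hn.mul hx).mul hn.inv).of_eq ?_, hxT.conj hn.1 (hPW ⟨hn.1, _, hn.2⟩)⟩
    rw [wm_up, mul_inv_cancel_right]
    congr 1
    ring
  have hmul : ∀ A C : Matrix.SpecialLinearGroup (Fin 2) F, (∃ x, Al M 0 x A ∧ Tr P W₁ x) →
      (∃ x, Al M 0 x C ∧ Tr P W₁ x) → ∃ x, Al M 0 x (A * C) ∧ Tr P W₁ x := by
    rintro A C ⟨x, hx, hxT⟩ ⟨y, hy, hyT⟩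
    exact ⟨x * y, hx.mul hy, hxT.mul hyT hx.1⟩
  obtain ⟨a, b, c, d, rfl⟩ := exists_up_lo B
  exact hmul _ _ (hmul _ _ (hmul _ _ (hup a) (hlo b)) (hup c)) (hlo d)

/-- **`W₁ ≤ O₂(P)`** -/
theorem le_o2_one (hWP : W₁ ⊓ P ≤ o2 P) : W₁ ≤ o2 P := by
  have hcent : W₁ ≤ centralizer (Nc M 0 : Set G) := by
    intro w hw
    obtain ⟨n, hn⟩ := h2 ⟨w, hw⟩
    refine cent_Nc_of_comm q (hN hw) (n := n) (congrArg Subtype.val hn) fun B => ?_
    obtain ⟨x, hx, hxT⟩ := exists_tr q h2 hN hPW hWP B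
    refine ⟨x, hx, ?_⟩
    have h3 := conj_mem (hN hw) (hxT w hw)
    have e : w * (w⁻¹ * (x * w * x⁻¹)) * w⁻¹ = x * w * x⁻¹ * w⁻¹ := by group
    rwa [e] at h3
  have hNV : Nc M 0 ≤ zl (S : Subgroup G) P := Nc_le_zl 0
  have hQc : o2 P ≤ centralizer (Nc M 0 : Set G) := by
    have h3 : o2 P ≤ centralizer (zl (S : Subgroup G) P : Set G) := by
      rw [← q.h.inf_centralizer S q.hG]
      exact inf_le_right
    exact h3.trans (centralizer_le hNV)
  have hSN : (S : Subgroup G) ≤ normalizer (Nc M 0 : Set G) :=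
    le_normalizer_of fun s hs n hn => Nc_norm (q.h.le hs) (Mv0 q (q.h.le hs)) hn
  have hSc : (S : Subgroup G) ⊓ centralizer (Nc M 0 : Set G) ≤ o2 P := by
    rintro s ⟨hs, hsc⟩
    have hsP := q.h.le hs
    have h3 : s ∈ kern M := by
      refine ⟨hsP, fun v hv => ?_⟩
      obtain ⟨n, hn, he⟩ := Sd.Nc_surj M 0 (M.e v 0)
      have hnV := hNV hn
      have h4 : M.e v = M.e n := e_ext he.symm
      rw [e_conj_congr M hsP hv hnV h4, ← mem_centralizer_iff.1 hsc n hn, mul_inv_cancel_right, h4]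
    have h4 := comm_of_quot q.hG S q.h M q.hk hs h3
    rw [← q.h.inf_centralizer S q.hG]
    exact mem_inf.2 ⟨hs, mem_centralizer_iff.2 fun v hv => (h4 v hv).symm⟩
  have hK : IsPGroup 2 (o2 P ⊔ W₁ : Subgroup G) := IsPGroup.to_sup_of_normal_left' (o2_isPGroup P) h2 hN
  have hKc : o2 P ⊔ W₁ ≤ centralizer (Nc M 0 : Set G) := sup_le hQc hcent
  obtain ⟨n, hn, hnS⟩ := FFThm.exists_conj_le S hSN hK (hKc.trans (centralizer_le_normalizer _))
  have h3 : cj n (o2 P ⊔ W₁) ≤ o2 P := by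
    refine le_trans (le_inf hnS ?_) hSc
    rintro _ ⟨k, hk, rfl⟩
    exact conj_cent hn (hKc hk)
  have h4 : o2 P = o2 P ⊔ W₁ := by
    refine eq_of_le_of_card_ge le_sup_left ?_
    rw [← card_cj n (o2 P ⊔ W₁)]
    exact Nat.card_le_card_of_injective _ (inclusion_injective h3)
  rw [h4]
  exact le_sup_right

end one

/-! ### The theorem -/

section main

variable (q : Sit F S P 1)
include q

/-- **A 2-subgroup of `G` normalised by `PL M` is contained in `O₂(P)`.** -/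
theorem le_o2_of_norm {W : Subgroup G} (h2 : IsPGroup 2 W) (hPW : PL M ≤ normalizer (W : Set G)) : W ≤ o2 P := by
  -- `W₁`
  set W₁ : Subgroup G := W ⊓ normalizer (o2 P : Set G) with hW₁
  have hPL : PL M ≤ normalizer (normalizer (o2 P : Set G) : Set G) :=
    PL_le.trans ((le_normalizer_o2 P).trans le_normalizer)
  have hPW₁ : PL M ≤ normalizer (W₁ : Set G) := by
    refine le_normalizer_of fun g hg w hw => mem_inf.2 ⟨conj_mem (hPW hg) hw.1, conj_mem (hPL hg) hw.2⟩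
  have hWP : W ⊓ P ≤ o2 P := by
    refine inf_le_o2 (M := M) q (h2.to_le inf_le_left) inf_le_right ?_
    exact le_normalizer_of fun g hg w hw => mem_inf.2
      ⟨conj_mem (hPW hg) hw.1, mul_mem (mul_mem (PL_le hg) hw.2) (inv_mem (PL_le hg))⟩
  have h1 : W₁ ≤ o2 P := le_o2_one (M := M) q (h2.to_le inf_le_left) inf_le_right hPW₁
    ((inf_le_inf_right _ inf_le_left).trans hWP)
  -- growth of normalisers
  by_contra hcon
  have hQW : o2 P ≤ normalizer (W : Set G) := (o2_le_LS (M := M) q).trans (inf_le_right.trans hPW)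
  have hT : IsPGroup 2 (W ⊔ o2 P : Subgroup G) := IsPGroup.to_sup_of_normal_left' h2 (o2_isPGroup P) hQW
  have hlt : o2 P < W ⊔ o2 P := by
    refine lt_of_le_of_ne le_sup_right fun h => hcon ?_
    rw [h]
    exact le_sup_left
  obtain ⟨t, ⟨htT, htN⟩, htQ⟩ := SetLike.exists_of_lt (Lib.GoldschmidtFusion.lt_inf_normalizer hT hlt)
  have h3 : t ∈ ((W ⊔ o2 P : Subgroup G) : Set G) := htT
  rw [coe_mul_of_right_le_normalizer_left _ _ hQW] at h3
  obtain ⟨w, hw, z, hz, rfl⟩ := h3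
  have h4 : w ∈ W₁ := by
    refine mem_inf.2 ⟨hw, ?_⟩
    have h5 : z⁻¹ ∈ normalizer (o2 P : Set G) := inv_mem (le_normalizer hz)
    have h6 := mul_mem htN h5
    rwa [mul_inv_cancel_right] at h6
  exact htQ (mul_mem (h1 h4) hz)

/-- `PL M` centralises `D` -/
theorem PL_cent : PL M ≤ centralizer (cv (S : Subgroup G) P : Set G) := by
  rintro g ⟨hg, A, hA⟩
  exact mem_centralizer_iff.2 fun d hd => (hA.2 d hd).symm

/-- **(GD)** for a subgroup normalised by `PL M`, `V` and of characteristic 2 -/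
theorem gd_of {C : Subgroup G} (hPC : PL M ≤ normalizer (C : Set G)) (hVC : zl (S : Subgroup G) P ≤ C)
    (hC : C ⊓ centralizer (o2 C : Set G) ≤ o2 C) :
    o2 C ≤ o2 P ∧ zl (S : Subgroup G) P ≤ o2 C ∧ zl (S : Subgroup G) P ≤ centralizer (o2 C : Set G) := by
  have h1 : o2 C ≤ o2 P := le_o2_of_norm (M := M) q (o2_isPGroup C)
    (hPC.trans (normalizer_le_normalizer_o2 C))
  have h2 : zl (S : Subgroup G) P ≤ centralizer (o2 C : Set G) := by
    intro v hv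
    rw [mem_centralizer_iff]
    intro w hw
    exact (mem_zc.1 (zl_le_A q.hG S q.h hv)).2.1 w (h1 hw)
  exact ⟨h1, (le_inf hVC h2).trans hC, h2⟩

/-- **(GD)** -/
theorem gd (M : NatK F (S : Subgroup G) P (zl (S : Subgroup G) P) (cv (S : Subgroup G) P) 1) {x : G} (hx : x ∈ cv (S : Subgroup G) P) (hx1 : x ≠ 1) :
    o2 (centralizer ({x} : Set G)) ≤ o2 P ∧ zl (S : Subgroup G) P ≤ o2 (centralizer ({x} : Set G)) ∧
      zl (S : Subgroup G) P ≤ centralizer (o2 (centralizer ({x} : Set G)) : Set G) := by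
  have hxV := cv_le _ _ hx
  have hx2 : x ^ 2 = 1 := by rw [pow_two]; exact sqV' q hxV
  refine gd_of (M := M) q (le_trans ?_ le_normalizer) ?_ (MinSimple.Basic.char2_centralizer q.hG hx2 hx1)
  · intro g hg
    rw [mem_centralizer_singleton_iff]
    exact (mem_centralizer_iff.1 (PL_cent (M := M) q hg) x hx).symm
  · intro v hv
    rw [mem_centralizer_singleton_iff]
    exact IId.ThmCQ.Nsp.V_comm q hv hxV

end main

end Cfsg.Agent.Omega.NOThreeL.RF.GD
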