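import Cfsg.Agent.Omega.NOThreeL.RBig.Trans

/-!
# NO-3L, box R, `R ∩ (A)`, nonsplit with fields (#21360 (0)): `|T| = 2` is impossible, the pure part

An axis system (`RBig.Trans.Sit`) whose axes all have index `2`, and a subgroup `W ≤ U_c` with at least two nonzero
elements which lies in every axis containing `z`: contradiction.
-/

set_option autoImplicit false
set_option linter.unusedSectionVars false

namespace Cfsg.Agent.Omega.NOThreeL.RF.TwoT

open Subgroup
open Cfsg.Agent.Omega.NOThreeL.ThmAx (mem_smul smul_eq_of)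
open Cfsg.Agent.Omega.NOThreeL.RBig.Trans
open scoped Pointwise

variable {H M : Type*} [Group H] [AddCommGroup M] [DistribMulAction H M]
variable {A : Set (AddSubgroup M)} {TT : AddSubgroup M → Subgroup H} {YY : AddSubgroup M → AddSubgroup M}
  {z : M} {K : AddSubgroup M}

/-- The component `z_c` of `z`: nonzero, and on `c` it lies in the same axes as `z`. -/
theorem exists_comp [Finite H] [Finite M] (D : Sit A TT YY z) (hK : K ∈ A) :
    ∃ u ∈ UC A YY K, u ≠ 0 ∧ ∀ g ∈ Cp A YY K, u ∈ g ↔ z ∈ g := by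
  obtain ⟨u, hu, hg⟩ := D.mem hK
  have hiff : ∀ g ∈ Cp A YY K, u ∈ g ↔ z ∈ g := fun g h => by
    constructor
    · intro h1
      have h2 := g.add_mem (hg g h) h1
      rwa [D.add_add_self] at h2
    · intro h1
      have h2 := g.add_mem (hg g h) h1
      rwa [add_comm z u, D.add_add_self] at h2
  refine ⟨u, hu, ?_, hiff⟩
  rintro rfl
  obtain ⟨g, h, hz⟩ := D.not_mem hK
  exact hz ((hiff g h).1 (zero_mem _))

/-- If `W ≤ U_c` lies in every axis of `c` that contains `z`, then every axis of `c` containing one nonzero vector of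
`W` contains `W` (and `z`). -/
theorem mem_of_mem [Finite H] [Finite M] (D : Sit A TT YY z) (hK : K ∈ A) {W : AddSubgroup M}
    (hWU : W ≤ UC A YY K) (hW : ∀ g ∈ Cp A YY K, z ∈ g → W ≤ g) {r : M} (hr : r ∈ W) (hr0 : r ≠ 0)
    {g : AddSubgroup M} (hg : g ∈ Cp A YY K) (hrg : r ∈ g) : z ∈ g := by
  obtain ⟨u, hu, hu0, hiff⟩ := exists_comp D hK
  obtain ⟨n, hn, hnu⟩ := D.transU hK hu hu0 (hWU hr) hr0
  -- `X u ⊆ X r`, same number
  set X : M → Set (AddSubgroup M) := fun m => {g | g ∈ Cp A YY K ∧ m ∈ g} with hX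
  have hinv : ∀ k ∈ NC A TT YY K, ∀ g ∈ Cp A YY K, k • g ∈ Cp A YY K := fun k hk g hg => by
    have h1 := D.NN_Cp (D.mem_A hg) (D.NC_le_NN hk)
    rwa [D.Cp_eq hg] at h1
  have hsub : X u ⊆ X r := fun k hk => ⟨hk.1, hW k hk.1 ((hiff k hk.1).1 hk.2) hr⟩
  have hfin : (X r).Finite := Set.toFinite _
  have himg : X r = (fun g : AddSubgroup M => n • g) '' X u := by
    ext k
    constructor
    · rintro ⟨h1, h2⟩
      refine ⟨n⁻¹ • k, ⟨hinv _ (inv_mem hn) _ h1, ?_⟩, smul_inv_smul n k⟩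
      rw [mem_smul, inv_inv, hnu]
      exact h2
    · rintro ⟨k, ⟨h1, h2⟩, rfl⟩
      refine ⟨hinv _ hn _ h1, ?_⟩
      change r ∈ n • k
      rw [mem_smul, ← hnu, inv_smul_smul]
      exact h2
  have hcard : (X r).ncard = (X u).ncard := by
    rw [himg]
    exact Set.ncard_image_of_injective _ (MulAction.injective n)
  have heq : X u = X r := Set.eq_of_subset_of_ncard_le hsub hcard.le hfin
  have h1 : g ∈ X r := ⟨hg, hrg⟩
  rw [← heq] at h1
  exact (hiff g hg).1 h1.2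

/-- **`|T| = 2` is impossible** (#21360 (0)): axes of index `2`, `|W| ≥ 4`. -/
theorem two_false [Finite H] [Finite M] (D : Sit A TT YY z) (hK : K ∈ A) {W : AddSubgroup M}
    (hWU : W ≤ UC A YY K) (hW : ∀ g ∈ Cp A YY K, z ∈ g → W ≤ g)
    (h2 : ∀ g ∈ A, ∀ a b : M, a ∉ g → b ∉ g → a + b ∈ g)
    {r s : M} (hr : r ∈ W) (hs : s ∈ W) (hr0 : r ≠ 0) (hs0 : s ≠ 0) (hrs : r ≠ s) : False := by
  obtain ⟨g, hg, hz⟩ := D.not_mem hK
  have h1 : ∀ w ∈ W, w ≠ 0 → w ∉ g := fun w hw hw0 hwg => hz (mem_of_mem D hK hWU hW hw hw0 hg hwg)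
  refine h1 (r + s) (add_mem hr hs) (fun h => hrs ?_) (h2 g (D.mem_A hg) r s (h1 r hr hr0) (h1 s hs hs0))
  have h3 := D.add_add_self r s
  rw [h, zero_add] at h3
  exact h3.symm

end Cfsg.Agent.Omega.NOThreeL.RF.TwoT
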