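import Cfsg.Agent.Omega.NOThreeL.RF.Min
import Cfsg.Agent.Omega.NOThreeL.RF.TwoT
import Cfsg.Agent.Omega.NOThreeL.RSplit.TransRt
import Cfsg.Agent.Omega.NOThreeL.RSplit.Mod

/-!
# NO-3L, `R ∩ (A)`, one natural factor, field automorphisms (#21360 (0)): `D ∩ I = 1`, `|T| ≥ 4`

`D : HypM S P H` (the minimal pair; no coordinates).

* `HypM.comm_pair` : `z ∈ Z - F_H`, `t ∈ C_H(z)` ⟹ `[V, V^t] = 1`;
* **`HypM.inf_Rr`** : an `S`-invariant subgroup of `C_V(O²(P))` meets `I = C_U(N)` trivially (stated for every `S`-invariant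
  `B ≤ V` with `C_B(S) ≤ C(P)`);
* **`HypM.not_two`** : if `|U : C_U(V)| = 2` then `[u, V]` has order at most `2` (for every `u ∈ U`).
-/

set_option autoImplicit false
set_option linter.unusedSectionVars false

namespace Cfsg.Agent.Omega.NOThreeL.RF

open Subgroup Cfsg Cfsg.Agent.Omega.MinPar
open Cfsg.Agent.ZN (zc zl o2)
open Cfsg.Agent.Omega.Frame Cfsg.Agent.Omega.FrameNOFF
open Cfsg.Agent.Omega.Node.NO3L Cfsg.Agent.Omega.NOThreeL.Basic
open Cfsg.Agent.Omega.NoFF.Basic (conj_conj mem_conj conj_le_iff conj_le_centralizer comm_symm comm_mono)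
open Cfsg.Agent.Omega.NOThreeL.Pair (conj_eq_of_mem conj_le_normalizer zl_abel)
open Cfsg.Agent.MinSimple.VModule (zl_le zc_le_zl le_normalizer_zl zc_le o2_isPGroup le_normalizer_o2 le_o2
  normalizer_le_normalizer_zc mem_zc)
open Cfsg.Agent.Omega.NOThreeL (mem_normalizer_of_conj_eq le_normalizer_of mem_sup_of_comm)
open Cfsg.Agent.Omega.NOThreeL.RTools (cm cm_def cm_mul NN conj_mem_of_mem conj_le_NN le_NN NN_le le_normalizer_NN
  le_sup_inf isLong)
open Cfsg.Agent.Omega.NOThreeL.RA (Fc Yy Rr le_o2_of_pairs)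
open Cfsg.Agent.Omega.NOThreeL.RSplit (Nrm)
open Cfsg.Agent.Omega.NOThreeL.ThmAx (IsAx TT YY mem_smul IsAx.smul)
open Cfsg.Agent.Omega.NOThreeL.RSplit.TransRt (Axs)
open Cfsg.Agent.Omega.NOThreeL.RBig (Trans.Sit)
open scoped Pointwise

universe u

variable {G : Type u} [Group G]

namespace HypM

variable [Finite G] {S : Sylow 2 G} {P H : Subgroup G} (D : HypM S P H)
include D

/-! ### `[V, V^t] = 1` -/

/-- `z ∈ Z - F_H`, `t ∈ C_H(z)` ⟹ `[V^t, V] = 1` -/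
theorem comm_pair {z t : G} (hz : z ∈ zc (S : Subgroup G)) (hzF : z ∉ Fc (S : Subgroup G) H) (ht : t ∈ H)
    (htz : t * z = z * t) :
    MulAut.conj t • zl (S : Subgroup G) P ≤ centralizer (zl (S : Subgroup G) P : Set G) := by
  have h1 := D.min_o2 (h := 1) (x := z) (one_mem _) (by rwa [map_one, one_smul]) hzF
  rw [map_one, one_smul] at h1
  have hz1 : z ≠ 1 := fun h => hzF (h ▸ one_mem _)
  have hl0 := isLong S hz hz1
  have hl : IsLong (S : Subgroup G) (H ⊓ centralizer ({z} : Set G)) :=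
    ⟨hl0.loc.of_le S (le_inf D.SH hl0.loc.le) inf_le_right, le_inf D.CH hl0.cz⟩
  have hoS : o2 (H ⊓ centralizer ({z} : Set G)) ≤ (S : Subgroup G) := hl.loc.o2_le S
  have htc : t ∈ H ⊓ centralizer ({z} : Set G) := mem_inf.2 ⟨ht, mem_centralizer_singleton_iff.2 htz⟩
  have hVt : MulAut.conj t • zl (S : Subgroup G) P ≤ o2 (H ⊓ centralizer ({z} : Set G)) := by
    have h2 := (conj_le_iff (g := t)).2 h1
    rwa [conj_eq_of_mem (le_normalizer_o2 _ htc)] at h2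
  have D' := GeoLow.geo D.hc (⟨D.data.noff, D.data.low⟩ : DataLow (S : Subgroup G))
  have h2 := D'.noff' D.par D.par (g := t) (h := 1)
    (by
      rw [map_one, one_smul]
      exact (hVt.trans hoS).trans D.SP)
    (by
      rw [map_one, one_smul]
      have h3 : zl (S : Subgroup G) P ≤ MulAut.conj t • o2 (H ⊓ centralizer ({z} : Set G)) := by
        rw [conj_eq_of_mem (le_normalizer_o2 _ htc)]
        exact h1
      exact h3.trans (conj_le_iff.2 (hoS.trans D.SP)))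
  rw [map_one, one_smul] at h2
  exact h2

/-! ### `D ∩ I = 1` -/

/-- **`D ∩ I = 1`**: an `S`-invariant `B ≤ V` with `C_B(S) ≤ C(P)` meets `I = C_U(N)` trivially. -/
theorem inf_Rr {B : Subgroup G} (hBV : B ≤ zl (S : Subgroup G) P) (hSB : (S : Subgroup G) ≤ normalizer (B : Set G))
    (hB : B ⊓ zc (S : Subgroup G) ≤ centralizer (P : Set G)) : B ⊓ Rr (S : Subgroup G) P H = ⊥ := by
  by_contra hne
  have hS : (S : Subgroup G) ≤ normalizer ((B ⊓ Rr (S : Subgroup G) P H : Subgroup G) : Set G) := by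
    intro s hs
    have h1 := hSB hs
    have h2 := D.HR (D.SH hs)
    rw [mem_normalizer_iff] at h1 h2 ⊢
    intro x
    rw [mem_inf, mem_inf, h1 x, h2 x]
  obtain ⟨x, hx, hx1, hxS⟩ := NoFF.LinesPlug.exists_fixed S.isPGroup' ((inf_le_left.trans hBV).trans D.VS) hS hne
  obtain ⟨hxB, hxR⟩ := mem_inf.1 hx
  have hxz : x ∈ zc (S : Subgroup G) := mem_zc.2 ⟨D.VS (hBV hxB), fun s hs => hxS s hs, by
    rw [pow_two, D.sqV (hBV hxB)]⟩
  exact hx1 (D.not_cent hxz (hB (mem_inf.2 ⟨hxB, hxz⟩)) (mem_inf.1 hxR).2)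

/-! ### The module `U` -/

theorem nrm : Nrm H (zl (S : Subgroup G) H) := ⟨fun _ hu _ hv => D.commU hu hv, le_normalizer_zl _ _⟩

theorem cm_memV {u v : G} (hu : u ∈ zl (S : Subgroup G) H) (hv : v ∈ zl (S : Subgroup G) P) :
    cm v u ∈ zl (S : Subgroup G) P := by
  have e1 : cm v u = v * (u * v⁻¹ * u⁻¹) := by rw [cm_def]; group
  rw [e1]
  exact mul_mem hv (conj_mem_of_mem (D.PV (D.SP (D.US hu))) (inv_mem hv))

theorem cm_memU {u v : G} (hu : u ∈ zl (S : Subgroup G) H) (hv : v ∈ zl (S : Subgroup G) P) :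
    cm v u ∈ zl (S : Subgroup G) H := by
  have e1 : cm v u = (v * u * v⁻¹) * u⁻¹ := by rw [cm_def]
  rw [e1]
  exact mul_mem (conj_mem_of_mem (D.HU (D.VH hv)) hu) (inv_mem hu)

theorem cm_mulV {u v w : G} (hu : u ∈ zl (S : Subgroup G) H) (hv : v ∈ zl (S : Subgroup G) P)
    (hw : w ∈ zl (S : Subgroup G) P) : cm (v * w) u = cm v u * cm w u := by
  have e1 : cm (v * w) u = (v * cm w u * v⁻¹) * cm v u := by simp only [cm_def]; group
  rw [e1, D.commV hv (D.cm_memV hu hw), mul_inv_cancel_right, D.commV (D.cm_memV hu hw) (D.cm_memV hu hv)]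

/-- `[V, u₀]` as a subgroup of the module -/
def RH {u₀ : G} (hu₀ : u₀ ∈ zl (S : Subgroup G) H) : AddSubgroup D.nrm.Mod where
  carrier := {m | ∃ v ∈ zl (S : Subgroup G) P, D.nrm.val m = cm v u₀}
  zero_mem' := ⟨1, one_mem _, by rw [Nrm.val_zero, cm_def]; group⟩
  add_mem' := by
    rintro a b ⟨v, hv, h1⟩ ⟨w, hw, h2⟩
    exact ⟨v * w, mul_mem hv hw, by rw [Nrm.val_add, h1, h2, D.cm_mulV hu₀ hv hw]⟩
  neg_mem' := by
    rintro a ⟨v, hv, h1⟩
    refine ⟨v, hv, ?_⟩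
    rw [Nrm.val_neg, h1]
    exact inv_eq_of_mul_eq_one_left (D.sqV (D.cm_memV hu₀ hv))

/-- the root group of the action -/
abbrev TH (_ : HypM S P H) : Unit → Subgroup H := fun _ => (zl (S : Subgroup G) P).subgroupOf H

/-- its axis -/
abbrev AxH : Unit → AddSubgroup D.nrm.Mod := fun _ => D.nrm.ad (centralizer (zl (S : Subgroup G) P : Set G))

/-- `N` acts on `U` as the abstract group `NN` -/
theorem exists_NN {x : G} (hx : x ∈ NN (S : Subgroup G) P H) :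
    ∃ hxH : x ∈ H, (⟨x, hxH⟩ : H) ∈ RBig.Trans.NN (Axs H D.AxH) (TT D.TH D.AxH) := by
  have h1 : NN (S : Subgroup G) P H ≤ (RBig.Trans.NN (Axs H D.AxH) (TT D.TH D.AxH)).map H.subtype := by
    refine NN_le fun y hy v hv => ?_
    rw [mem_conj] at hv
    refine ⟨⟨y, hy⟩ * ⟨y⁻¹ * v * y, D.VH hv⟩ * ⟨y, hy⟩⁻¹, ?_, ?_⟩
    · exact RSplit.TransRt.conj_mem_NN (T := D.TH) (Ax := D.AxH) (i := ()) (mem_subgroupOf.2 hv)
    · change y * (y⁻¹ * v * y) * y⁻¹ = v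
      group
  obtain ⟨⟨x', hx'⟩, hxK, rfl⟩ := h1 hx
  exact ⟨hx', hxK⟩

/-- `|U : C_U(V)| = 2` (at most). -/
def Two (_ : HypM S P H) : Prop :=
  ∀ u ∈ zl (S : Subgroup G) H, ∀ u' ∈ zl (S : Subgroup G) H, u ∉ centralizer (zl (S : Subgroup G) P : Set G) →
    u' ∉ centralizer (zl (S : Subgroup G) P : Set G) → u * u' ∈ centralizer (zl (S : Subgroup G) P : Set G)

/-- all elements outside `C_U(V)` have the same commutators with `V` -/
theorem cm_eq (h2 : D.Two) {u₀ u v : G} (hu₀ : u₀ ∈ zl (S : Subgroup G) H)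
    (hc : u₀ ∉ centralizer (zl (S : Subgroup G) P : Set G)) (hu : u ∈ zl (S : Subgroup G) H)
    (huc : u ∉ centralizer (zl (S : Subgroup G) P : Set G)) (hv : v ∈ zl (S : Subgroup G) P) : cm v u = cm v u₀ := by
  have h3 := mem_centralizer_iff.1 (h2 u₀ hu₀ u hu hc huc) v hv
  have e : u = u₀ * (u₀ * u) := by rw [← mul_assoc, D.sqU hu₀, one_mul]
  conv_lhs => rw [e]
  calc cm v (u₀ * (u₀ * u)) = v * u₀ * ((u₀ * u) * v⁻¹) * (u₀ * u)⁻¹ * u₀⁻¹ := by rw [cm_def]; group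
    _ = v * u₀ * (v⁻¹ * (u₀ * u)) * (u₀ * u)⁻¹ * u₀⁻¹ := by
        have h4 : (u₀ * u) * v⁻¹ = v⁻¹ * (u₀ * u) := by
          rw [mul_inv_eq_iff_eq_mul, mul_assoc, ← h3, inv_mul_cancel_left]
        rw [h4]
    _ = cm v u₀ := by rw [cm_def]; group

/-- **Root groups**, for `|U : C_U(V)| = 2`. -/
theorem rt (h2 : D.Two) {u₀ : G} (hu₀ : u₀ ∈ zl (S : Subgroup G) H)
    (hc : u₀ ∉ centralizer (zl (S : Subgroup G) P : Set G)) :
    RSplit.Root.Rt D.TH D.AxH (fun _ => D.RH hu₀) where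
  char2 m := Nrm.ext (D.sqU (Nrm.val_mem _ m))
  fix i t ht u hu := by
    refine Nrm.ext ?_
    have h1 := mem_centralizer_iff.1 (Nrm.mem_ad.1 hu) t (mem_subgroupOf.1 ht)
    rw [Nrm.val_smul, h1, mul_inv_cancel_right]
  quad i t ht u := by
    have htV : (t : G) ∈ zl (S : Subgroup G) P := mem_subgroupOf.1 ht
    by_cases hu : D.nrm.val u ∈ centralizer (zl (S : Subgroup G) P : Set G)
    · have h1 := mem_centralizer_iff.1 hu t htV
      have h3 : t • u - u = 0 := by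
        refine Nrm.eq_zero_iff.2 ?_
        rw [Nrm.val_sub, Nrm.val_smul, h1, mul_inv_cancel_right, mul_inv_cancel]
      rw [h3]
      exact zero_mem _
    · refine ⟨t, htV, ?_⟩
      rw [Nrm.val_sub, Nrm.val_smul, ← D.cm_eq h2 hu₀ hc (Nrm.val_mem _ u) hu htV, cm_def]
  full i u hu r hr := by
    obtain ⟨v, hv, he⟩ := hr
    refine ⟨⟨v, D.VH hv⟩, mem_subgroupOf.2 hv, Nrm.ext ?_⟩
    rw [Nrm.val_smul, Nrm.val_add, he, ← D.cm_eq h2 hu₀ hc (Nrm.val_mem _ u) hu hv,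
      D.commU (Nrm.val_mem _ u) (D.cm_memU (Nrm.val_mem _ u) hv), cm_def]
    group
  le i j := by
    rintro m ⟨v, hv, he⟩
    rw [Nrm.mem_ad, he, mem_centralizer_iff]
    exact fun w hw => D.commV hw (D.cm_memV hu₀ hv)
  trans i j := ⟨1, one_smul _ _⟩

/-- some `z ∈ Z` is not fixed by `N` -/
theorem exists_z : ∃ z, ∃ hz : z ∈ zc (S : Subgroup G), ∃ x : H, D.nrm.of z (zc_le_zl _ _ hz) ∉ x • D.AxH () := by
  by_contra hcon
  push Not at hcon
  apply D.ne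
  rw [le_centralizer_iff]
  refine NoFF.Basic.V_le (Z := zc (S : Subgroup G)) fun k hk y hy => ?_
  rw [mem_conj] at hy
  have h1 := hcon _ hy ⟨k, hk⟩⁻¹
  rw [Nrm.smul_ad, Nrm.mem_ad, Nrm.val_of, mem_conj] at h1
  have e : ((⟨k, hk⟩⁻¹ : H) : G)⁻¹ * (k⁻¹ * y * k) * ((⟨k, hk⟩⁻¹ : H) : G) = y := by
    change (k⁻¹)⁻¹ * (k⁻¹ * y * k) * k⁻¹ = y
    group
  rwa [e] at h1

/-- **`|U : C_U(V)| = 2` implies `|[V, u]| ≤ 2`** (#21360 (0)). -/
theorem not_two (h2 : D.Two) {u v w : G} (hu : u ∈ zl (S : Subgroup G) H) (hv : v ∈ zl (S : Subgroup G) P)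
    (hw : w ∈ zl (S : Subgroup G) P) (h1 : cm v u ≠ 1) (h3 : cm w u ≠ 1) (h4 : cm v u ≠ cm w u) : False := by
  have hc : u ∉ centralizer (zl (S : Subgroup G) P : Set G) := fun hc =>
    h1 (cm_eq_one.2 (mem_centralizer_iff.1 hc v hv))
  have R := D.rt h2 hu hc
  set r : D.nrm.Mod := D.nrm.of (cm v u) (D.cm_memU hu hv) with hr
  set s : D.nrm.Mod := D.nrm.of (cm w u) (D.cm_memU hu hw) with hs
  have hrR : r ∈ D.RH hu := ⟨v, hv, rfl⟩
  have hsR : s ∈ D.RH hu := ⟨w, hw, rfl⟩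
  have hr0 : r ≠ 0 := fun h => h1 (Nrm.eq_zero_iff.1 h)
  have hs0 : s ≠ 0 := fun h => h3 (Nrm.eq_zero_iff.1 h)
  have hrs : r ≠ s := fun h => h4 (Nrm.ext_iff.1 h)
  have big : ∀ i : Unit, 2 < Nat.card (D.RH hu) := fun _ => by
    have h5 : ({0, r, s} : Set D.nrm.Mod).ncard = 3 := by
      rw [Set.ncard_eq_three]
      exact ⟨0, r, s, hr0.symm, hs0.symm, hrs, rfl⟩
    have h6 : ({0, r, s} : Set D.nrm.Mod) ⊆ (D.RH hu : Set D.nrm.Mod) := by
      rintro m (rfl | rfl | rfl)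
      · exact zero_mem _
      · exact hrR
      · exact hsR
    have h7 := Set.ncard_le_ncard h6 (Set.toFinite _)
    rw [h5] at h7
    have h8 : Nat.card (D.RH hu) = (D.RH hu : Set D.nrm.Mod).ncard := Nat.card_coe_set_eq _
    omega
  obtain ⟨z, hz, x₀, hx₀⟩ := D.exists_z
  have hzF : z ∉ Fc (S : Subgroup G) H := by
    intro hzF
    apply hx₀
    rw [Nrm.smul_ad, Nrm.mem_ad, Nrm.val_of, mem_conj]
    have h5 := Fc_conj hzF (inv_mem x₀.2)
    rw [inv_inv] at h5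
    rw [h5, mem_centralizer_iff]
    exact fun y hy => D.commV hy (D.ZV hz)
  have Q : Trans.Sit (Axs H D.AxH) (TT D.TH D.AxH) (YY H D.AxH (fun _ => D.RH hu)) (D.nrm.of z (zc_le_zl _ _ hz)) := by
    refine RSplit.TransRt.sit R big ?_ ?_ ⟨x₀, (), hx₀⟩
    · refine ⟨S.subtype D.long.loc.le, fun s hs => Nrm.ext ?_⟩
      rw [Nrm.val_smul, Nrm.val_of]
      have h5 : (s : G) ∈ (S : Subgroup G) := hs
      rw [(mem_zc.1 hz).2.1 _ h5, mul_inv_cancel_right]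
    · rintro ⟨x, hx⟩
      obtain ⟨n, hn, c, hcc, rfl⟩ := D.exists_nc hx
      obtain ⟨hnH, hn'⟩ := D.exists_NN hn
      refine ⟨_, hn', Nrm.ext ?_⟩
      rw [Nrm.val_smul, Nrm.val_of]
      change n⁻¹ * (n * c) * z * (n⁻¹ * (n * c))⁻¹ = z
      rw [inv_mul_cancel_left, ← mem_centralizer_iff.1 hcc z hz, mul_inv_cancel_right]
  have hA : D.AxH () ∈ Axs H D.AxH := ⟨1, (), one_smul _ _⟩
  refine TwoT.two_false Q hA (W := D.RH hu) ?_ ?_ ?_ hrR hsR hr0 hs0 hrs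
  · exact (RSplit.Root.Rt.R_le_YY (H := H) (Ax := D.AxH) (R := fun _ => D.RH hu) ()).trans
      (RBig.Trans.AxSys.YY_le_UC (RBig.Trans.AxSys.self_mem hA))
  · -- `z ∈ g` implies `[V, u] ≤ g`
    intro g hg hzg
    have hgA := Q.mem_A hg
    by_contra hcon
    obtain ⟨m, hm, hmg⟩ := SetLike.not_le_iff_exists.1 hcon
    have h5 : YY H D.AxH (fun _ => D.RH hu) g ≤ D.AxH () := by
      intro y hy
      obtain ⟨t, ht, hty⟩ := R.TT_full hmg hy
      have htz := Nrm.ext_iff.1 (R.TT_fix ht hzg)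
      rw [Nrm.val_smul, Nrm.val_of] at htz
      have h6 := D.comm_pair hz hzF t.2 (mul_inv_eq_iff_eq_mul.1 htz)
      obtain ⟨v', hv', he⟩ := hm
      have h7 : D.nrm.val y = (t * cm v' u * (t : G)⁻¹) * (cm v' u)⁻¹ := by
        have h8 := Nrm.ext_iff.1 hty
        rw [Nrm.val_smul, Nrm.val_add, he] at h8
        rw [h8, D.commU (D.cm_memU hu hv') (Nrm.val_mem _ y), mul_inv_cancel_right]
      rw [Nrm.mem_ad, h7]
      refine mul_mem (h6 ?_) (inv_mem ?_)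
      · rw [mem_conj]
        have e : (t : G)⁻¹ * (t * cm v' u * (t : G)⁻¹) * t = cm v' u := by group
        rw [e]
        exact D.cm_memV hu hv'
      · rw [mem_centralizer_iff]
        exact fun y hy => D.commV hy (D.cm_memV hu hv')
    have h6 : YY H D.AxH (fun _ => D.RH hu) (D.AxH ()) ≤ g := by
      by_contra h6
      exact Q.symm _ hA _ hgA h6 h5
    exact hmg (h6 (RSplit.Root.Rt.R_le_YY (H := H) (Ax := D.AxH) (R := fun _ => D.RH hu) () hm))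
  · -- the axes have index `2`
    rintro _ ⟨x, i, rfl⟩ a b ha hb
    rw [mem_smul] at ha hb ⊢
    rw [smul_add, Nrm.mem_ad, Nrm.val_add]
    exact h2 _ (Nrm.val_mem _ _) _ (Nrm.val_mem _ _) ha hb

end HypM

end Cfsg.Agent.Omega.NOThreeL.RF
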