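import Cfsg.Agent.Omega.NOThreeL.RF.DOne
import Cfsg.Agent.Omega.NOThreeL.RF.BigT
import Cfsg.Agent.Omega.NOThreeL.RStr.Act
import Cfsg.Agent.Omega.NOThreeL.RFourFrame

/-!
# NO-3L, `R ∩ (A)`, `k = 1`, fields (#21360 (0)): `|T| ≥ 4`, `[U, V] = R D₁`, `Z⁺ ≤ U`

`D : HypM S P H` (minimal pair), `M : NatK F S P V D 1`, `4 ≤ |F|` (`q : Sit F S P 1`), `g` as in `IsG M g`.

* `HypM.U_le_LS` : `U ≤ S₀`;
* `HypM.D_inf_R` : `D ∩ I = 1` (`D = C_V(O²(P))`, `I = C_U(N)`);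
* **`HypM.exists_two`** (`|T| ≥ 4`) : there are `u, u' ∈ U` with `0 ≠ β(u) ≠ β(u') ≠ 0`;
* **`HypM.cm_gen`** (`[U, V] = R g(F)`) : a subgroup containing all `[v, u]` contains `R` and `g(F)`;
* **`HypM.Zp_le_U`** : `Z⁺ ≤ U`.
-/

set_option autoImplicit false
set_option linter.unusedSectionVars false
set_option linter.unusedVariables false

namespace Cfsg.Agent.Omega.NOThreeL.RF

open Subgroup Cfsg Cfsg.Agent.Omega.MinPar
open Cfsg.Agent.ZN (zc zl o2)
open Cfsg.Agent.Omega.Frame Cfsg.Agent.Omega.FrameNOFF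
open Cfsg.Agent.Omega.Node.NO3L Cfsg.Agent.Omega.NOThreeL.Basic
open Cfsg.Agent.Omega.NoFF.Basic (conj_conj mem_conj conj_le_iff conj_le_centralizer comm_symm comm_mono)
open Cfsg.Agent.MinSimple.VModule (zl_le zc_le_zl le_normalizer_zl zc_le o2_isPGroup le_normalizer_o2 le_o2
  normalizer_le_normalizer_zc mem_zc)
open Cfsg.Agent.Omega.NOThreeL (mem_normalizer_of_conj_eq le_normalizer_of mem_sup_of_comm)
open Cfsg.Agent.Omega.NOThreeL.RTools (cm cm_def conj_mem_of_mem)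
open Cfsg.Agent.Omega.NOThreeL.AOne (Act)
open Cfsg.Agent.Omega.NOThreeL.RFour (mem_centralizer_of_act co)
open Cfsg.Agent.Omega.NOThreeL.RA (Fc Yy Rr)
open Cfsg.Agent.Omega.FFThm (NatK ActsSL)
open Cfsg.Agent.Omega.FrameFF (cv)
open Cfsg.Agent.Omega.HOne (cv_le conj_mem_zl conj_mem_cv)
open Cfsg.Agent.Omega.IId.Ns (Al Mv one1 one1_same one1_ne exists_omega)
open Cfsg.Agent.Omega.IId.ThmCQ.Nsp
open Cfsg.Agent.Lib.SL2Mat
open Cfsg.Agent.Omega.NatPair (ap ap_mul ap_one ap_inv_ap)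
open scoped Pointwise

universe u

variable {G : Type u} [Group G] [Finite G] {F : Type} [Field F] [Finite F] [CharP F 2] {S : Sylow 2 G} {P H : Subgroup G}

/-- An element of `S` acting as `up b` on `V / D` lies in `S₀`. -/
theorem mem_LS_of_up {M : NatK F (S : Subgroup G) P (zl (S : Subgroup G) P) (cv (S : Subgroup G) P) 1}
    (q : Sit F S P 1) {u : G} (hu : u ∈ (S : Subgroup G)) {b : F}
    (hb : ∀ v ∈ zl (S : Subgroup G) P, M.e (u * v * u⁻¹) 0 = ap (up b) (M.e v 0)) : u ∈ LS M := by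
  obtain ⟨t, ht, htb⟩ := M.unip fun _ => b
  have htP := q.h.le ht
  have htV : t ∈ normalizer (zl (S : Subgroup G) P : Set G) := le_normalizer_zl _ _ htP
  have ht1 : Act (co M) (zl (S : Subgroup G) P) t (up b) := fun v hv => htb.1 v hv 0
  have hu1 : Act (co M) (zl (S : Subgroup G) P) u (up b) := hb
  have h1 : Act M.natOver.e (zl (S : Subgroup G) P) (u * t⁻¹) 1 := by
    have h2 := hu1.mul (ht1.inv htV) (inv_mem htV)
    rwa [mul_inv_cancel] at h2
  have h2 := mem_centralizer_of_act q.hG S q.h M.natOver (mul_mem (q.h.le hu) (inv_mem htP)) h1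
  have h3 := mem_LS_of_cent (M := M) q.h.le (mul_mem hu (inv_mem ht)) h2
  have h4 := mul_mem h3 (mem_LS (M := M) q.h.le ht htb)
  rwa [inv_mul_cancel_right] at h4

namespace HypM

variable (D : HypM S P H)
  {M : NatK F (S : Subgroup G) P (zl (S : Subgroup G) P) (cv (S : Subgroup G) P) 1} (q : Sit F S P 1)
include D q

omit [Finite F] [CharP F 2] q in
theorem quad : AFour.Quad (S : Subgroup G) P (zl (S : Subgroup G) H) where
  SP := D.SP
  VS := D.VS
  US := D.US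
  SU := D.SH.trans D.HU
  ab := fun u hu v hv => D.commU hu hv
  sq := fun u hu => D.sqU hu

/-- **`U ≤ S₀`** -/
theorem U_le_LS : zl (S : Subgroup G) H ≤ LS M := by
  intro u hu
  obtain ⟨b, hb⟩ := RStr.exists_up D.quad M hu
  exact mem_LS_of_up q (D.US hu) fun v hv => hb v hv 0

/-- **`D ∩ I = 1`** -/
theorem D_inf_R (M : NatK F (S : Subgroup G) P (zl (S : Subgroup G) P) (cv (S : Subgroup G) P) 1) :
    cv (S : Subgroup G) P ⊓ Rr (S : Subgroup G) P H = ⊥ := by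
  refine D.inf_Rr (cv_le _ _) (le_normalizer_of fun s hs d hd => conj_mem_cv (D.SP hs) hd) ?_
  rintro d ⟨hd, hz⟩
  rw [mem_centralizer_iff]
  intro x hx
  exact mul_inv_eq_iff_eq_mul.1 (DZ_cent M D.SP hd hz hx)

theorem exists_u : ∃ u ∈ zl (S : Subgroup G) H, bet M u ≠ 0 := by
  by_contra hcon
  push Not at hcon
  apply D.ne
  rw [le_centralizer_iff]
  intro u hu
  exact (bet_eq_zero (M := M) q (D.U_le_LS q hu)).1 (hcon u hu)

/-- **`|T| ≥ 4`** -/
theorem exists_two : ∃ u ∈ zl (S : Subgroup G) H, ∃ u' ∈ zl (S : Subgroup G) H,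
    bet M u ≠ 0 ∧ bet M u' ≠ 0 ∧ bet M u ≠ bet M u' := by
  by_contra hcon
  push Not at hcon
  have hU := D.U_le_LS (M := M) q
  have h2 : D.Two := by
    intro u hu u' hu' h1 h2
    have h3 := (bet_eq_zero (M := M) q (hU hu)).not.2 h1
    have h4 := (bet_eq_zero (M := M) q (hU hu')).not.2 h2
    rw [← bet_eq_zero (M := M) q (mul_mem (hU hu) (hU hu')), bet_mul q (hU hu) (hU hu'), hcon u hu u' hu' h3 h4]
    exact CharTwo.add_self_eq_zero _
  obtain ⟨u, hu, hb⟩ := D.exists_u (M := M) q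
  obtain ⟨ω, h0, h1⟩ := exists_omega q.hF
  obtain ⟨v, hv, hve⟩ := M.surj fun _ => ![0, 1]
  obtain ⟨w, hw, hwe⟩ := M.surj fun _ => ![0, ω]
  have e1 := (e_cm q hv (hU hu)).2
  have e2 := (e_cm q hw (hU hu)).2
  rw [hve] at e1
  rw [hwe] at e2
  have e1' : M.e (cm v u) 0 0 = bet M u := by rw [e1]; exact one_mul _
  have e2' : M.e (cm w u) 0 0 = ω * bet M u := e2
  have e3 : M.e (1 : G) 0 0 = 0 := by rw [IId.Cv.e_one M]; rfl
  refine D.not_two h2 hu hv hw ?_ ?_ ?_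
  · intro h
    rw [h, e3] at e1'
    exact hb e1'.symm
  · intro h
    rw [h, e3] at e2'
    exact (mul_ne_zero h0 hb) e2'.symm
  · intro h
    rw [h, e2'] at e1'
    exact h1 ((mul_eq_right₀ hb).1 e1')

variable {g : F → G} (hg : IsG M g)
include hg

omit [Finite F] [CharP F 2] D q hg in
theorem exists_v1 (a : F) : ∃ v ∈ zl (S : Subgroup G) P, M.e v 0 1 = a := by
  obtain ⟨v, hv, h⟩ := M.surj fun _ => ![0, a]
  exact ⟨v, hv, by rw [h]; rfl⟩

/-- the value `(t, g(t² / β))` -/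
theorem exists_val {u : G} (hu : u ∈ zl (S : Subgroup G) H) (hb : bet M u ≠ 0) {r : G} (hr : r ∈ Rt M) :
    ∃ v ∈ zl (S : Subgroup G) P, cm v u = r * g (M.e r 0 0 * M.e r 0 0 / bet M u) := by
  have hU := D.U_le_LS (M := M) q
  obtain ⟨v, hv, hv1⟩ := exists_v1 (M := M) (M.e r 0 0 / bet M u)
  obtain ⟨r', hr', h1, h2⟩ := exists_cm q hg hv (hU hu)
  rw [hv1, div_mul_cancel₀ _ hb] at h1
  refine ⟨v, hv, ?_⟩
  rw [h2, R_inj q hr' hr h1, hv1]
  congr 2
  field_simp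

/-- **`[U, V] = R g(F)`** -/
theorem cm_gen {K : Subgroup G}
    (hK : ∀ v ∈ zl (S : Subgroup G) P, ∀ u ∈ zl (S : Subgroup G) H, cm v u ∈ K) :
    Rt M ≤ K ∧ ∀ x, g x ∈ K := by
  have : Fintype F := Fintype.ofFinite F
  obtain ⟨u, hu, u', hu', hb, hb', hne⟩ := D.exists_two (M := M) q
  have hgK : ∀ x, g x ∈ K := by
    intro y
    have hc : (bet M u)⁻¹ + (bet M u')⁻¹ ≠ 0 := by
      intro h
      apply hne
      have h1 : (bet M u)⁻¹ = (bet M u')⁻¹ := by
        rw [← CharTwo.sub_eq_add, sub_eq_zero] at h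
        exact h
      exact inv_injective h1
    obtain ⟨t, ht⟩ := FiniteField.isSquare_of_char_two (ringChar.eq F 2) (y / ((bet M u)⁻¹ + (bet M u')⁻¹))
    obtain ⟨r, hr, hrt⟩ := exists_R (M := M) q t
    obtain ⟨v, hv, h1⟩ := D.exists_val q hg hu hb hr
    obtain ⟨v', hv', h2⟩ := D.exists_val q hg hu' hb' hr
    rw [hrt, ← ht] at h1 h2
    have h3 := mul_mem (hK v hv u hu) (hK v' hv' u' hu')
    set A := y / ((bet M u)⁻¹ + (bet M u')⁻¹) / bet M u with hA
    set B := y / ((bet M u)⁻¹ + (bet M u')⁻¹) / bet M u' with hB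
    have h4 : A + B = y := by
      rw [hA, hB, div_eq_mul_inv _ (bet M u), div_eq_mul_inv _ (bet M u'), ← mul_add, div_mul_cancel₀ _ hc]
    have h5 : cm v u * cm v' u' = g y := by
      rw [h1, h2]
      have hrV := R_le_V q hr
      have hAV : g A ∈ zl (S : Subgroup G) P := cv_le _ _ (hg.mem A)
      calc r * g A * (r * g B) = (r * g A * r) * g B := by group
        _ = (g A * r * r) * g B := by rw [V_comm q hrV hAV]
        _ = g A * (r * r) * g B := by group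
        _ = g A * g B := by rw [V_sq q hrV, mul_one]
        _ = g y := by rw [← hg.add, h4]
    rwa [h5] at h3
  refine ⟨fun r hr => ?_, hgK⟩
  obtain ⟨v, hv, h1⟩ := D.exists_val q hg hu hb hr
  have h2 := mul_mem (hK v hv u hu) (inv_mem (hgK (M.e r 0 0 * M.e r 0 0 / bet M u)))
  rwa [h1, mul_inv_cancel_right] at h2

theorem R_le_U : Rt M ≤ zl (S : Subgroup G) H :=
  (D.cm_gen q hg fun _ hv _ hu => D.cm_memU hu hv).1

theorem g_mem_U (x : F) : g x ∈ zl (S : Subgroup G) H :=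
  (D.cm_gen q hg fun _ hv _ hu => D.cm_memU hu hv).2 x

theorem D_le_U : cv (S : Subgroup G) P ≤ zl (S : Subgroup G) H := by
  intro d hd
  obtain ⟨x, e, he, rfl⟩ := exists_g q hg hd
  exact mul_mem (D.g_mem_U q hg x) (D.ZU (mem_inf.1 he).2)

/-- **`Z⁺ ≤ U`** -/
theorem Zp_le_U : Zp M ≤ zl (S : Subgroup G) H := by
  intro z hz
  obtain ⟨r, hr, d, hd, rfl⟩ := exists_rd q hz
  exact mul_mem (D.R_le_U q hg hr) (D.D_le_U q hg hd)

end HypM

end Cfsg.Agent.Omega.NOThreeL.RF
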