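import Cfsg.Agent.Omega.NOThreeL.RF.Four
import Cfsg.Agent.Omega.NOThreeL.RF.GD
import Cfsg.Agent.Omega.NOThreeL.RF.ZpU
import Cfsg.Agent.Omega.NOThreeL.NsF.OTwo
import Cfsg.Agent.Omega.NOThreeL.NsF.CountX
import Cfsg.Agent.StdRank2.OutField

/-!
# NO-3L, `R ∩ (A)`, `k = 1`, not split, field automorphisms (`NsF`): the instance of `Four`

* `mem_SL_of` : `GD.SL M = LS M`; `inv_LS` : the product of two involutions of `S - S₀` is in `S₀` (`S / S₀` is cyclic);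
* `S0_of_R` : `C_S(R) = S₀`;
* **`Four.of`** : the data `Four M g`, from `g ≠ 1` and `normD` (`N_G(Z⁺)` normalises `D`).
-/

set_option autoImplicit false
set_option linter.unusedSectionVars false

namespace Cfsg.Agent.Omega.NOThreeL.RF

open Subgroup Cfsg Cfsg.Agent.Omega.MinPar
open Cfsg.Agent.ZN (zc zl o2)
open Cfsg.Agent.Omega.Frame Cfsg.Agent.Omega.FrameNOFF
open Cfsg.Agent.Omega.Node.NO3L Cfsg.Agent.Omega.NOThreeL.Basic
open Cfsg.Agent.Omega.FFThm (NatK ActsSL)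
open Cfsg.Agent.Omega.FrameFF (cv)
open Cfsg.Agent.Omega.IId.Ns (Al)
open Cfsg.Agent.Omega.IId.ThmCQ.Nsp
open Cfsg.Agent.Omega.NOThreeL.RTools (cm cm_def conj_mem_of_mem)
open Cfsg.Agent.Lib.SL2Mat
open Cfsg.Agent.Omega.NOThreeL.RF.GD (SL sgHom ker_sgHom)
open scoped Pointwise

universe u

variable {G : Type u} [Group G] [Finite G] {F : Type} [Field F] [Finite F] [CharP F 2] {S : Sylow 2 G}
  {P : Subgroup G} {M : NatK F (S : Subgroup G) P (zl (S : Subgroup G) P) (cv (S : Subgroup G) P) 1}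

theorem mem_SL_of {s : G} (q : Sit F S P 1) : s ∈ SL M ↔ s ∈ LS M := by
  constructor
  · rintro ⟨hs, b, hb⟩
    exact mem_LS q.h.le hs (Al_iff.1 hb).2
  · intro hs
    exact ⟨LS_le hs, bet M s, Al_iff.2 ⟨q.h.le (LS_le hs), bet_LS q hs⟩⟩

/-- `S / S₀` is cyclic: the product of two involutions outside `S₀` -/
theorem inv_LS (q : Sit F S P 1) : ∀ a ∈ (S : Subgroup G), ∀ b ∈ (S : Subgroup G), a * a = 1 → b * b = 1 →
    a ∉ LS M → b ∉ LS M → a * b ∈ LS M := by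
  intro a ha b hb ha2 hb2 haS hbS
  have hker : ∀ s : ↥(S : Subgroup G), sgHom S q.h M s = 1 ↔ (s : G) ∈ LS M := by
    intro s
    rw [← MonoidHom.mem_ker, ker_sgHom q.hG S q.h M, mem_subgroupOf, mem_SL_of q]
  set α := sgHom S q.h M ⟨a, ha⟩ with hα
  set β := sgHom S q.h M ⟨b, hb⟩ with hβ
  have h1 : α * α = 1 := by
    rw [hα, ← map_mul, ← map_one (sgHom S q.h M)]
    congr 1
    exact Subtype.ext ha2
  have h2 : β * β = 1 := by
    rw [hβ, ← map_mul, ← map_one (sgHom S q.h M)]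
    congr 1
    exact Subtype.ext hb2
  have h3 : α ≠ 1 := fun h => haS ((hker _).1 h)
  have h4 : β ≠ 1 := fun h => hbS ((hker _).1 h)
  have h5 : α = β := Cfsg.Agent.StdRank2.OutField.unique_invol h1 h2 h3 h4
  have h6 : sgHom S q.h M (⟨a, ha⟩ * ⟨b, hb⟩) = 1 := by
    rw [map_mul, ← hα, ← hβ, ← h5, h1]
  exact (hker _).1 h6

/-- `C_S(R) = S₀` -/
theorem S0_of_R (q : Sit F S P 1) : ∀ s ∈ (S : Subgroup G), (∀ r ∈ Rt M, s * r = r * s) → s ∈ LS M := by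
  intro s hs h
  refine NsF.mem_LS_of_line q hs fun v hv => ?_
  obtain ⟨r, hr, d, hd, rfl⟩ := exists_rd q hv
  have e1 : s * (r * d) * s⁻¹ = (s * r * s⁻¹) * (s * d * s⁻¹) := by group
  have e2 : s * r * s⁻¹ = r := by rw [h r hr, mul_inv_cancel_right]
  have hd' : s * d * s⁻¹ ∈ cv (S : Subgroup G) P := HOne.conj_mem_cv (q.h.le hs) hd
  rw [e1, e2, e_add (R_le_V q hr) (HOne.cv_le _ _ hd'), e_add (R_le_V q hr) (HOne.cv_le _ _ hd), e_D hd', e_D hd]

/-- **The instance.** -/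
theorem Four.of (hD : Data (S : Subgroup G)) (q : Sit F S P 1) {g : F → G} (hg : IsG M g) (hg1 : ∃ x, g x ≠ 1)
    (hnD : ∀ x ∈ normalizer (Zp M : Set G), MulAut.conj x • cv (S : Subgroup G) P = cv (S : Subgroup G) P) :
    Four M g where
  hc := q.hG
  data := hD
  sit := q
  isG := hg
  ne := hg1
  S0R := S0_of_R q
  inv := inv_LS q
  gd x hx hx1 := (GD.gd q M hx hx1).2.1
  normD := hnD
  ZpU H D := D.Zp_le_U q hg
  cnt H D X hX hO hDX := by
    obtain ⟨hUL, W⟩ := wc_of q (S0_of_R q) (inv_LS q) D (D.Zp_le_U q hg)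
    exact NsF.FX_eq_of q hg W hUL hX hO hDX hg1

end Cfsg.Agent.Omega.NOThreeL.RF
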