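import Cfsg.Agent.Omega.NOThreeL.RTransvPlug
import Cfsg.Agent.Omega.NOThreeL.RA.End

/-!
# NO-3L, `R ∩ (A)`, one natural factor, field automorphisms (`NsF`, #22083 (f), #22492 (f6)): (7) END

`V = zl S P`, `H ≤ N_G(R)` local, `U = zl S H`, `C = CZ S`, `E = C_Z(P)`, `Z ≤ Zp ≤ V ∩ U` (`Zp = R × D`), `I = C_U(⟨V^H⟩)`.

* `QPV S P H` : (Q): every abelian normal subgroup `B ≤ O₂(C)` of `C` which centralises `V` acts on `U` as a subgroup
  of `V`;
* `Sit S P H R Zp I D` : the facts used;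
* **`Sit.false`** : contradiction.
-/

set_option autoImplicit false

namespace Cfsg.Agent.Omega.NOThreeL.RF.End

open Subgroup Cfsg Cfsg.Agent.ZN Cfsg.Agent.Omega.MinPar Cfsg.Agent.Omega.Frame Cfsg.Agent.Omega.FrameNOFF
open Cfsg.Agent.Omega.Node.NO3L Cfsg.Agent.Omega.NOThreeL.Basic
open Cfsg.Agent.Omega.NoFF.Basic (V conj_conj mem_conj conj_le_iff conj_le_centralizer comm_symm comm_mono
  Z_le_V V_le conj_V_mul)
open Cfsg.Agent.Omega.NOThreeL.Pair (conj_eq_of_mem conj_le_normalizer zl_abel)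
open Cfsg.Agent.MinSimple.VModule (zl_le le_normalizer_zl zc_le_zl zc_le zl_le_zc mem_zc
  normalizer_le_normalizer_zc o2_isPGroup le_normalizer_o2 le_o2 o2_le)
open Cfsg.Agent.Omega.NOThreeL.RA.End (zl_mono exists_mul_of_mem_sup le_normalizer_centralizer)
open scoped Pointwise commutatorElement

universe u

variable {G : Type u} [Group G]

/-- **(Q)**: every abelian normal subgroup of `C` in `O₂(C) ∩ C(V)` acts on `U_H` as a subgroup of `V_P`. -/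
def QPV (S P H : Subgroup G) : Prop :=
  ∀ B : Subgroup G, B ≤ o2 (CZ S) → CZ S ≤ normalizer (B : Set G) → B ≤ centralizer (B : Set G) →
    B ≤ centralizer (zl S P : Set G) → B ≤ zl S P ⊔ centralizer (zl S H : Set G)

/-- The facts used in (7); `Zp = R D`, `I = C_U(⟨V^H⟩)`. -/
structure Sit (S P H R Zp I D : Subgroup G) : Prop where
  par : IsParS S P
  loc : IsLoc S H
  ne : ¬ zl S H ≤ centralizer (zl S P : Set G)
  /-- `C_Z(P) ≠ 1` -/
  hE : zc S ⊓ centralizer (P : Set G) ≠ ⊥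
  HR : H ≤ normalizer (R : Set G)
  HI : H ≤ normalizer (I : Set G)
  IV : I ≤ centralizer (zl S P : Set G)
  ZZp : zc S ≤ Zp
  ZpV : Zp ≤ zl S P
  ZpU : Zp ≤ zl S H
  RD : Zp ≤ R ⊔ D
  RZp : R ≤ Zp
  DZp : D ≤ Zp
  PD : P ≤ normalizer (D : Set G)
  /-- `E ∩ R = 1` -/
  ER : ∀ e ∈ zc S, e ∈ centralizer (P : Set G) → e ∈ R → e = 1
  /-- `Z ∩ I ≤ R` -/
  ZI : ∀ z ∈ zc S, z ∈ I → z ∈ R
  /-- `[U, V] ≤ Zp` -/
  UV : ∀ u ∈ zl S H, ∀ v ∈ zl S P, u * v * u⁻¹ * v⁻¹ ∈ Zp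
  /-- `Zp ≤ [U, V] I` -/
  ZR : Zp ≤ ⁅zl S H, zl S P⁆ ⊔ I
  /-- `[v, U] D = Zp` for `v ∉ Zp` -/
  full : ∀ v ∈ zl S P, v ∉ Zp → ∀ z ∈ Zp, ∃ u ∈ zl S H, u * v * u⁻¹ * v⁻¹ * z⁻¹ ∈ D
  /-- `V = Zp R^r`, `R^r ∩ Zp = 1` -/
  rho : ∃ r ∈ P, zl S P ≤ Zp ⊔ MulAut.conj r • R ∧ ∀ f ∈ R, r * f * r⁻¹ ∈ Zp → f = 1
  /-- `R ≠ 1` -/
  R1 : R ≠ ⊥
  /-- the elements of `E# R` are conjugate into `Z - R` under `N_H(V)` -/
  fuse : ∀ e ∈ zc S, e ∈ centralizer (P : Set G) → e ≠ 1 → ∀ r ∈ R,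
    ∃ b ∈ H, b ∈ normalizer (zl S P : Set G) ∧ b * (e * r) * b⁻¹ ∈ zc S ∧ b * (e * r) * b⁻¹ ∉ R
  /-- (GOOD) -/
  good : ∀ z ∈ zc S, z ∉ R → zl S P ≤ o2 (centralizer ({z} : Set G))
  /-- distinct points are disjoint -/
  disj : ∀ g ∈ H, (∃ z ∈ MulAut.conj g • Zp, z ∈ Zp ∧ z ∉ I) → MulAut.conj g • Zp ≤ Zp ⊔ I

namespace Sit

variable [Finite G] {S : Sylow 2 G} {P H R Zp I D : Subgroup G}
variable (hc : IsCharacteristicTwoType G) (Da : Data (S : Subgroup G))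
  (T : Sit (S : Subgroup G) P H R Zp I D) (hQ : QPV (S : Subgroup G) P H)

include hc Da T

/-- The lines commute. -/
theorem line_comm {P₁ : Subgroup G} (h₁ : IsParS (S : Subgroup G) P₁) :
    zl (S : Subgroup G) P₁ ≤ centralizer (zl (S : Subgroup G) P : Set G) := by
  have D' := Basic.geo hc Da
  have h := D'.noff' h₁ T.par (g := 1) (h := 1) (by
    rw [map_one, one_smul, one_smul]
    exact (IsParS.zl_le_S hc h₁).trans T.par.le) (by
    rw [map_one, one_smul, one_smul]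
    exact (IsParS.zl_le_S hc T.par).trans h₁.le)
  rw [map_one, one_smul, one_smul] at h
  exact h

include hQ

/-- `W₀ = ⟨V_{P₁}^L⟩`, `L = ⟨P, C⟩`: all its elements act on `U` as elements of `V`. -/
theorem W0 {P₁ : Subgroup G} (h₁ : IsParS (S : Subgroup G) P₁) (hH : P₁ ≤ H) {y l : G}
    (hy : y ∈ zl (S : Subgroup G) P₁) (hl : l ∈ P ⊔ CZ (S : Subgroup G)) :
    l * y * l⁻¹ ∈ zl (S : Subgroup G) P ⊔ centralizer (zl (S : Subgroup G) H : Set G) := by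
  have hL : IsLong (S : Subgroup G) (P ⊔ CZ (S : Subgroup G)) := Da.loc P T.par
  set L := P ⊔ CZ (S : Subgroup G) with hLdef
  have hUU : zl (S : Subgroup G) P₁ ≤ zl (S : Subgroup G) H := zl_mono hH
  have hVL : zl (S : Subgroup G) P ≤ zl (S : Subgroup G) L := zl_mono le_sup_left
  have hLab := (zl_abel hc S hL.loc).1
  -- `V ⊔ C(U)` centralises `V_{P₁}`
  have h2 : zl (S : Subgroup G) P ⊔ centralizer (zl (S : Subgroup G) H : Set G) ≤
      centralizer (zl (S : Subgroup G) P₁ : Set G) :=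
    sup_le (comm_symm (T.line_comm hc Da h₁)) (centralizer_le hUU)
  have hU : zl (S : Subgroup G) L ≤ centralizer (zl (S : Subgroup G) P₁ : Set G) :=
    (hQ _ ((hL.zl_le_o2 hc S).trans (hL.o2_le S)) (hL.cz.trans (le_normalizer_zl _ _))
      hLab (hLab.trans (centralizer_le hVL))).trans h2
  have h3 : zl (S : Subgroup G) P₁ ≤ o2 L := le_o2_of_comm (Da.low P₁ h₁) hL (comm_symm hU)
  -- `W₀`
  have h4 : V (zl (S : Subgroup G) P₁) L ≤ o2 L := by
    refine V_le fun x hx => ?_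
    have h5 := (conj_le_iff (g := x)).2 h3
    rwa [conj_eq_of_mem (le_normalizer_o2 _ hx)] at h5
  have h6 : L ≤ normalizer (V (zl (S : Subgroup G) P₁) L : Set G) := by
    intro g hg
    refine RTransv.mem_normalizer_of_conj ?_
    have := conj_V_mul (Z := zl (S : Subgroup G) P₁) (g := 1) hg
    rwa [one_mul, map_one, one_smul] at this
  have D' := Basic.geo hc Da
  have hSL : ∀ x ∈ L, MulAut.conj x • zl (S : Subgroup G) P₁ ≤ o2 L := fun x hx => by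
    have h5 := (conj_le_iff (g := x)).2 h3
    rwa [conj_eq_of_mem (le_normalizer_o2 _ hx)] at h5
  have hLP' : ∀ P', IsParS (S : Subgroup G) P' → ∀ x ∈ L, o2 L ≤ MulAut.conj x • P' := fun P' h' x hx => by
    rw [← conj_eq_of_mem (le_normalizer_o2 L hx)]
    exact conj_le_iff.2 ((hL.loc.o2_le S).trans h'.le)
  have hVo : zl (S : Subgroup G) P ≤ o2 L := hVL.trans (hL.zl_le_o2 hc S)
  have h7 : V (zl (S : Subgroup G) P₁) L ≤ centralizer (V (zl (S : Subgroup G) P₁) L : Set G) := by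
    refine V_le fun x hx => comm_symm (V_le fun x' hx' => comm_symm ?_)
    exact D'.noff' h₁ h₁ ((hSL x hx).trans (hLP' P₁ h₁ x' hx')) ((hSL x' hx').trans (hLP' P₁ h₁ x hx))
  have h8 : V (zl (S : Subgroup G) P₁) L ≤ centralizer (zl (S : Subgroup G) P : Set G) := by
    refine V_le fun x hx => ?_
    have h9 := D'.noff' h₁ T.par (g := x) (h := 1) ((hSL x hx).trans (by
        have := hLP' P T.par 1 (one_mem _)
        exact this)) (by
        rw [map_one, one_smul]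
        exact hVo.trans (hLP' P₁ h₁ x hx))
    rwa [map_one, one_smul] at h9
  refine hQ _ (h4.trans (hL.o2_le S)) (hL.cz.trans h6) h7 h8 (Z_le_V (Z := zl (S : Subgroup G) P₁) hl ?_)
  rw [mem_conj]
  simpa [mul_assoc] using hy

/-- `⟨V^{C(z)}⟩`, `z ∈ Z - R`, acts on `U` as a subgroup of `V`. -/
theorem cz_act {z : G} (hz : z ∈ zc (S : Subgroup G)) (hzR : z ∉ R) {g v : G}
    (hg : g ∈ centralizer ({z} : Set G)) (hv : v ∈ zl (S : Subgroup G) P) :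
    g * v * g⁻¹ ∈ zl (S : Subgroup G) P ⊔ centralizer (zl (S : Subgroup G) H : Set G) := by
  have hz1 : z ≠ 1 := fun h => hzR (h ▸ one_mem _)
  have hC : CZ (S : Subgroup G) ≤ centralizer ({z} : Set G) :=
    centralizer_le (Set.singleton_subset_iff.2 hz)
  have hL : IsLong (S : Subgroup G) (centralizer ({z} : Set G)) :=
    ⟨isLoc_centralizer S (mem_zc.1 hz).2.2 hz1 ((le_CZ S).trans hC), hC⟩
  set L := centralizer ({z} : Set G) with hLdef
  have h3 : zl (S : Subgroup G) P ≤ o2 L := T.good z hz hzR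
  have h4 : V (zl (S : Subgroup G) P) L ≤ o2 L := by
    refine V_le fun x hx => ?_
    have h5 := (conj_le_iff (g := x)).2 h3
    rwa [conj_eq_of_mem (le_normalizer_o2 _ hx)] at h5
  have h6 : L ≤ normalizer (V (zl (S : Subgroup G) P) L : Set G) := by
    intro g hg
    refine RTransv.mem_normalizer_of_conj ?_
    have := conj_V_mul (Z := zl (S : Subgroup G) P) (g := 1) hg
    rwa [one_mul, map_one, one_smul] at this
  have D' := Basic.geo hc Da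
  have hSL : ∀ x ∈ L, MulAut.conj x • zl (S : Subgroup G) P ≤ o2 L := fun x hx => by
    have h5 := (conj_le_iff (g := x)).2 h3
    rwa [conj_eq_of_mem (le_normalizer_o2 _ hx)] at h5
  have hLP : ∀ x ∈ L, o2 L ≤ MulAut.conj x • P := fun x hx => by
    rw [← conj_eq_of_mem (le_normalizer_o2 L hx)]
    exact conj_le_iff.2 ((hL.loc.o2_le S).trans T.par.le)
  have h7 : V (zl (S : Subgroup G) P) L ≤ centralizer (V (zl (S : Subgroup G) P) L : Set G) := by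
    refine V_le fun x hx => comm_symm (V_le fun x' hx' => comm_symm ?_)
    exact D'.noff' T.par T.par ((hSL x hx).trans (hLP x' hx')) ((hSL x' hx').trans (hLP x hx))
  have h8 : zl (S : Subgroup G) P ≤ V (zl (S : Subgroup G) P) L := by
    have := Z_le_V (Z := zl (S : Subgroup G) P) (P := L) (p := 1) (one_mem _)
    rwa [map_one, one_smul] at this
  refine hQ _ (h4.trans (hL.o2_le S)) (hL.cz.trans h6) h7 (h7.trans (centralizer_le h8))
    (Z_le_V (Z := zl (S : Subgroup G) P) hg ?_)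
  rw [mem_conj]
  simpa [mul_assoc] using hv

/-- **The main step**: `V^{p₁⁻¹} ≤ V C(U)`. -/
theorem conj_V {P₁ : Subgroup G} (h₁ : IsParS (S : Subgroup G) P₁) (hH : P₁ ≤ H) {p₁ : G} (hp : p₁ ∈ P₁)
    {v : G} (hv : v ∈ zl (S : Subgroup G) P) :
    p₁⁻¹ * v * p₁ ∈ zl (S : Subgroup G) P ⊔ centralizer (zl (S : Subgroup G) H : Set G) := by
  obtain ⟨r, hr, hVr, hZr⟩ := T.rho
  have hUab := (zl_abel hc S T.loc).1
  have hPab := (zl_abel hc S T.par.isLoc).1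
  have hZU : zc (S : Subgroup G) ≤ zl (S : Subgroup G) H := zc_le_zl _ _
  have hZV : zc (S : Subgroup G) ≤ zl (S : Subgroup G) P := zc_le_zl _ _
  have hUU : zl (S : Subgroup G) P₁ ≤ zl (S : Subgroup G) H := zl_mono hH
  have hpH : p₁ ∈ H := hH hp
  have hRV : R ≤ zl (S : Subgroup G) P := T.RZp.trans T.ZpV
  have hcj : ∀ {g x : G} {A : Subgroup G}, g ∈ normalizer (A : Set G) → x ∈ A → g * x * g⁻¹ ∈ A :=
    fun hg hx => (mem_normalizer_iff.1 hg _).1 hx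
  have hcj' : ∀ {g x : G} {A : Subgroup G}, g ∈ normalizer (A : Set G) → x ∈ A → g⁻¹ * x * g ∈ A :=
    fun hg hx => by
      have := (mem_normalizer_iff.1 (inv_mem hg) _).1 hx
      rwa [inv_inv] at this
  -- `e ∈ E#`
  obtain ⟨⟨e, he⟩, he1'⟩ := Subgroup.ne_bot_iff_exists_ne_one.1 T.hE
  have he1 : e ≠ 1 := fun h => he1' (Subtype.ext h)
  obtain ⟨heZ, heP⟩ := mem_inf.1 he
  -- `y = p₁ e p₁⁻¹`
  have hyP : p₁ * e * p₁⁻¹ ∈ zl (S : Subgroup G) P₁ := hcj (le_normalizer_zl _ _ hp) (zc_le_zl _ _ heZ)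
  have h1 := T.W0 hc Da hQ h₁ hH hyP (mem_sup_left hr : r ∈ P ⊔ CZ (S : Subgroup G))
  have hVU : zl (S : Subgroup G) P ≤ normalizer (zl (S : Subgroup G) H : Set G) :=
    (IsParS.zl_le_S hc T.par).trans (T.loc.le.trans (le_normalizer_zl _ _))
  have hVC := le_normalizer_centralizer hVU
  obtain ⟨v₁, hv₁, c, hcU, e1⟩ := exists_mul_of_mem_sup hVC h1
  -- `v₁ = z (r f r⁻¹)`
  obtain ⟨z, hz, f, hf, e2⟩ : ∃ z ∈ Zp, ∃ f ∈ R, v₁ = z * (r * f * r⁻¹) := by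
    have hle : MulAut.conj r • R ≤ zl (S : Subgroup G) P := by
      have h3 := (conj_le_iff (g := r)).2 hRV
      rwa [conj_eq_of_mem (le_normalizer_zl _ _ hr)] at h3
    have hn : Zp ≤ normalizer ((MulAut.conj r • R : Subgroup G) : Set G) := by
      refine le_trans (T.ZpV.trans (hPab.trans (centralizer_le hle))) (centralizer_le_normalizer _)
    obtain ⟨z₁, hz₁, y, hy, e3⟩ := exists_mul_of_mem_sup hn (hVr hv₁)
    rw [mem_conj] at hy
    refine ⟨z₁, hz₁, r⁻¹ * y * r, hy, ?_⟩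
    rw [e3]
    group
  -- `x`
  set f₁ := p₁⁻¹ * f⁻¹ * p₁ with hf₁
  have hf₁R : f₁ ∈ R := hcj' (T.HR hpH) (inv_mem hf)
  set x := p₁ * e * p₁⁻¹ * f⁻¹ with hx
  have ex : x = p₁ * (e * f₁) * p₁⁻¹ := by rw [hx, hf₁]; group
  have hefU : e * f₁ ∈ zl (S : Subgroup G) H := mul_mem (hZU heZ) (T.ZpU (T.RZp hf₁R))
  have hrV : r * f * r⁻¹ ∈ zl (S : Subgroup G) P := hcj (le_normalizer_zl _ _ hr) (hRV hf)
  have hrx : r * x * r⁻¹ ∈ centralizer (zl (S : Subgroup G) H : Set G) := by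
    have h3 : r * x * r⁻¹ = z * ((r * f * r⁻¹) * c * (r * f * r⁻¹)⁻¹) := by
      calc r * x * r⁻¹ = (r * (p₁ * e * p₁⁻¹) * r⁻¹) * (r * f * r⁻¹)⁻¹ := by rw [hx]; group
        _ = _ := by rw [e1, e2]; group
    rw [h3]
    exact mul_mem (hUab (T.ZpU hz)) ((mem_normalizer_iff.1 (hVC hrV) c).1 hcU)
  -- `⟨U, U^{r⁻¹}⟩ ≤ C(x)`
  have hxU : x ∈ zl (S : Subgroup G) H := by
    rw [ex]
    exact hcj (le_normalizer_zl _ _ hpH) hefU
  have hU'x : ∀ u ∈ zl (S : Subgroup G) H, (r⁻¹ * u * r) * x = x * (r⁻¹ * u * r) := fun u hu => by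
    have h3 := mem_centralizer_iff.1 hrx u hu
    have h4 := congrArg (fun t => r⁻¹ * t * r) h3
    simpa [mul_assoc] using h4
  -- `z₀ = b (e f₁) b⁻¹`
  obtain ⟨b, hbH, hbV, hb1, hb2⟩ := T.fuse e heZ heP he1 f₁ hf₁R
  have hbU : b ∈ normalizer (zl (S : Subgroup G) H : Set G) := le_normalizer_zl _ _ hbH
  have hbK : ∀ {t : G}, b * t * b⁻¹ ∈ zl (S : Subgroup G) P ⊔ centralizer (zl (S : Subgroup G) H : Set G) →
      t ∈ zl (S : Subgroup G) P ⊔ centralizer (zl (S : Subgroup G) H : Set G) := by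
    intro t ht
    obtain ⟨v', hv', c', hc', e3⟩ := exists_mul_of_mem_sup hVC ht
    have h3 : t = (b⁻¹ * v' * b) * (b⁻¹ * c' * b) := by
      calc t = b⁻¹ * (b * t * b⁻¹) * b := by group
        _ = _ := by rw [e3]; group
    rw [h3]
    refine mul_mem (mem_sup_left (hcj' hbV hv')) (mem_sup_right ?_)
    rw [mem_centralizer_iff] at hc' ⊢
    intro u hu
    have h4 := hc' (b * u * b⁻¹) (hcj hbU hu)
    have h5 := congrArg (fun t => b⁻¹ * t * b) h4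
    simpa [mul_assoc] using h5
  set K := zl (S : Subgroup G) P ⊔ centralizer (zl (S : Subgroup G) H : Set G) with hK
  -- the elements `g f' g⁻¹`
  have hX : ∀ g : G, g * x = x * g → ∀ f' ∈ R, p₁⁻¹ * (g * f' * g⁻¹) * p₁ ∈ K := by
    intro g hg f' hf'
    have h3 : b * (p₁⁻¹ * g * p₁) * b⁻¹ ∈ centralizer ({b * (e * f₁) * b⁻¹} : Set G) := by
      rw [mem_centralizer_singleton_iff]
      rw [ex] at hg
      have h4 := congrArg (fun t => b * (p₁⁻¹ * t * p₁) * b⁻¹) hg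
      calc b * (p₁⁻¹ * g * p₁) * b⁻¹ * (b * (e * f₁) * b⁻¹)
          = b * (p₁⁻¹ * (g * (p₁ * (e * f₁) * p₁⁻¹)) * p₁) * b⁻¹ := by group
        _ = b * (p₁⁻¹ * (p₁ * (e * f₁) * p₁⁻¹ * g) * p₁) * b⁻¹ := h4
        _ = _ := by group
    have h5 : b * (p₁⁻¹ * f' * p₁) * b⁻¹ ∈ R := hcj (T.HR hbH) (hcj' (T.HR hpH) hf')
    refine hbK ?_
    have h6 : b * (p₁⁻¹ * (g * f' * g⁻¹) * p₁) * b⁻¹ =
        (b * (p₁⁻¹ * g * p₁) * b⁻¹) * (b * (p₁⁻¹ * f' * p₁) * b⁻¹) * (b * (p₁⁻¹ * g * p₁) * b⁻¹)⁻¹ := by group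
    rw [h6]
    exact T.cz_act hc Da hQ hb1 hb2 h3 (hRV h5)
  -- `Zp`
  have hZ : ∀ z₁ ∈ Zp, p₁⁻¹ * z₁ * p₁ ∈ K := fun z₁ hz₁ =>
    mem_sup_right (hUab (hcj' (le_normalizer_zl _ _ hpH) (T.ZpU hz₁)))
  have hXm : ∀ {a b : G}, p₁⁻¹ * a * p₁ ∈ K → p₁⁻¹ * b * p₁ ∈ K → p₁⁻¹ * (a * b) * p₁ ∈ K := by
    intro a b ha hb
    have := mul_mem ha hb
    have e7 : p₁⁻¹ * (a * b) * p₁ = p₁⁻¹ * a * p₁ * (p₁⁻¹ * b * p₁) := by group
    rwa [e7]
  have hXi : ∀ {a : G}, p₁⁻¹ * a * p₁ ∈ K → p₁⁻¹ * a⁻¹ * p₁ ∈ K := by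
    intro a ha
    have := inv_mem ha
    have e7 : p₁⁻¹ * a⁻¹ * p₁ = (p₁⁻¹ * a * p₁)⁻¹ := by group
    rwa [e7]
  -- `f' ∈ R#`
  obtain ⟨⟨f', hf'⟩, hf'1⟩ := Subgroup.ne_bot_iff_exists_ne_one.1 T.R1
  have hf'1 : f' ≠ 1 := fun h => hf'1 (Subtype.ext h)
  have hrf' : r * f' * r⁻¹ ∉ Zp := fun h0 => hf'1 (hZr f' hf' h0)
  have hrf'V : r * f' * r⁻¹ ∈ zl (S : Subgroup G) P := hcj (le_normalizer_zl _ _ hr) (hRV hf')
  have hZ' : ∀ z₁ ∈ Zp, p₁⁻¹ * (r⁻¹ * z₁ * r) * p₁ ∈ K := by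
    intro z₁ hz₁
    obtain ⟨u, hu, hd⟩ := T.full _ hrf'V hrf' z₁ hz₁
    set d := u * (r * f' * r⁻¹) * u⁻¹ * (r * f' * r⁻¹)⁻¹ * z₁⁻¹ with hddef
    have h5 : r⁻¹ * z₁ * r = (r⁻¹ * d * r)⁻¹ * (((r⁻¹ * u * r) * f' * (r⁻¹ * u * r)⁻¹) * f'⁻¹) := by
      rw [hddef]; group
    rw [h5]
    have h6 : r⁻¹ * d * r ∈ Zp := T.DZp (hcj' (T.PD hr) hd)
    exact hXm (hXi (hZ _ h6)) (hXm (hX _ (hU'x u hu) f' hf') (hXi (hZ _ (T.RZp hf'))))
  -- `V = Zp^{r⁻¹} Zp`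
  have h8 : zl (S : Subgroup G) P ≤ MulAut.conj r⁻¹ • Zp ⊔ Zp := by
    have h9 := (conj_le_iff (g := r⁻¹)).2 hVr
    rw [conj_eq_of_mem (le_normalizer_zl _ _ (inv_mem hr)), Subgroup.smul_sup, conj_conj, inv_mul_cancel,
      map_one, one_smul] at h9
    exact h9.trans (sup_le_sup le_rfl T.RZp)
  have h10 : MulAut.conj r⁻¹ • Zp ⊔ Zp ≤ MulAut.conj p₁ • K := by
    refine sup_le (fun y hy => ?_) (fun y hy => ?_)
    · rw [mem_conj, inv_inv] at hy
      rw [mem_conj]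
      have h11 := hZ' _ hy
      have h12 : r⁻¹ * (r * y * r⁻¹) * r = y := by group
      rwa [h12] at h11
    · rw [mem_conj]
      exact hZ y hy
  have h13 := h10 (h8 hv)
  rwa [mem_conj] at h13

omit [Finite G] hc Da hQ in
/-- the elements of `H` which normalise `Z` -/
theorem fix_of_Z {g : G} (hg : g ∈ H) (hgZ : g ∈ normalizer (zc (S : Subgroup G) : Set G)) :
    MulAut.conj g • Zp ≤ Zp ⊔ I := by
  obtain ⟨⟨e, he⟩, he1⟩ := Subgroup.ne_bot_iff_exists_ne_one.1 T.hE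
  have he1 : e ≠ 1 := fun h => he1 (Subtype.ext h)
  obtain ⟨heZ, heP⟩ := mem_inf.1 he
  refine T.disj g hg ⟨g * e * g⁻¹, ?_, T.ZZp ((mem_normalizer_iff.1 hgZ e).1 heZ), fun h => he1 ?_⟩
  · rw [mem_conj]
    have e1 : g⁻¹ * (g * e * g⁻¹) * g = e := by group
    rw [e1]
    exact T.ZZp heZ
  · exact T.ER e heZ heP (T.ZI e heZ ((mem_normalizer_iff.1 (T.HI hg) e).2 h))

include Da hQ in
/-- **(7) END**: contradiction. -/
theorem «false» : False := by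
  have hVU : zl (S : Subgroup G) P ≤ normalizer (zl (S : Subgroup G) H : Set G) :=
    (IsParS.zl_le_S hc T.par).trans (T.loc.le.trans (le_normalizer_zl _ _))
  have hVC := le_normalizer_centralizer hVU
  -- `[U, V] ≤ Zp`
  have hUVZ : ⁅zl (S : Subgroup G) H, zl (S : Subgroup G) P⁆ ≤ Zp :=
    commutator_le.2 fun u hu v hv => T.UV u hu v hv
  -- it suffices to map `Zp` into `Zp ⊔ I`
  have hn : ∀ X : Subgroup G, X ≤ H → (∀ g ∈ X, MulAut.conj g • Zp ≤ Zp ⊔ I) →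
      X ≤ normalizer ((Zp ⊔ I : Subgroup G) : Set G) := by
    intro X hX h g hg
    have key : ∀ g ∈ X, MulAut.conj g • (Zp ⊔ I) ≤ Zp ⊔ I := by
      intro g hg
      rw [Subgroup.smul_sup, conj_eq_of_mem (T.HI (hX hg))]
      exact sup_le (h g hg) le_sup_right
    refine RTransv.mem_normalizer_of_conj (le_antisymm (key g hg) ?_)
    have h1 := (conj_le_iff (g := g)).2 (key g⁻¹ (inv_mem hg))
    rwa [conj_conj, mul_inv_cancel, map_one, one_smul] at h1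
  have hHX : H ≤ normalizer ((Zp ⊔ I : Subgroup G) : Set G) := by
    refine T.loc.le_of_forall S ?_ fun P₁ h₁ hH => ?_
    · exact hn _ inf_le_left fun g hg => T.fix_of_Z (mem_inf.1 hg).1 (normalizer_le_normalizer_zc _ (mem_inf.1 hg).2)
    · by_cases hZ1 : P₁ ≤ normalizer (zc (S : Subgroup G) : Set G)
      · exact hn _ hH fun g hg => T.fix_of_Z (hH hg) (hZ1 hg)
      · have h₁' : IsParS (S : Subgroup G) P₁ := ⟨h₁, hZ1⟩
        refine hn _ hH fun g hg => ?_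
        have h1 := (conj_le_iff (g := g)).2 T.ZR
        rw [Subgroup.smul_sup, conj_eq_of_mem (T.HI (hH hg))] at h1
        refine h1.trans (sup_le ?_ le_sup_right)
        have h2 : MulAut.conj g • ⁅zl (S : Subgroup G) H, zl (S : Subgroup G) P⁆ ≤
            ⁅zl (S : Subgroup G) H, zl (S : Subgroup G) P⁆ := by
          have h3 : MulAut.conj g • ⁅zl (S : Subgroup G) H, zl (S : Subgroup G) P⁆ =
              ⁅MulAut.conj g • zl (S : Subgroup G) H, MulAut.conj g • zl (S : Subgroup G) P⁆ :=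
            map_commutator _ _ _
          rw [h3, conj_eq_of_mem (le_normalizer_zl _ _ (hH hg)), commutator_le]
          intro u hu w hw
          rw [mem_conj] at hw
          have h4 := T.conj_V hc Da hQ h₁' hH (inv_mem hg) hw
          have h5 : g⁻¹⁻¹ * (g⁻¹ * w * g) * g⁻¹ = w := by group
          rw [h5] at h4
          obtain ⟨v, hv, c, hcU, rfl⟩ := exists_mul_of_mem_sup hVC h4
          have h6 : ⁅u, v * c⁆ = ⁅u, v⁆ := by
            have h7 : c * u⁻¹ = u⁻¹ * c := (mem_centralizer_iff.1 hcU _ (inv_mem hu)).symm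
            calc ⁅u, v * c⁆ = u * v * (c * u⁻¹) * c⁻¹ * v⁻¹ := by rw [commutatorElement_def]; group
              _ = ⁅u, v⁆ := by rw [h7, commutatorElement_def]; group
          rw [h6]
          exact commutator_mem_commutator hu hv
        exact (h2.trans hUVZ).trans le_sup_left
  have h1 : zl (S : Subgroup G) H ≤ Zp ⊔ I := zl_le (T.ZZp.trans le_sup_left) hHX
  exact T.ne (h1.trans (sup_le (T.ZpV.trans (zl_abel hc S T.par.isLoc).1) T.IV))

end Sit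

end Cfsg.Agent.Omega.NOThreeL.RF.End
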