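import Cfsg.Agent.Omega.NOThreeL.RF.GNe
import Cfsg.Agent.Omega.NOThreeL.RF.FourInst
import Cfsg.Agent.Omega.NOThreeL.RF.InstF
import Cfsg.Agent.Omega.NOThreeL.NsF.NormZ
import Cfsg.Agent.Omega.NOThreeL.RTreeA

/-!
# NO-3L, `R ∩ (A)`, `NsF`: the assembly

* `NormDF` : `N_G(Z⁺)` normalises `D` (F3) as a socket; `nsF_of` : `NormDF` implies `RTreeA.NsF`;
* **`nsF`** : `RTreeA.NsF` (`k = 1`, not split, field automorphisms).
-/

set_option autoImplicit false

namespace Cfsg.Agent.Omega.NOThreeL.RF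

open Subgroup Cfsg Cfsg.Agent.Omega.MinPar
open Cfsg.Agent.ZN (zc zl o2)
open Cfsg.Agent.Omega.Node.NO3L Cfsg.Agent.Omega.NOThreeL.Basic
open Cfsg.Agent.Omega.NOThreeL.RTreeA (BigA Splits SplitBy)
open Cfsg.Agent.Omega.FFThm (NatK NatKM)
open Cfsg.Agent.Omega.FrameFF (cv)
open Cfsg.Agent.Omega.IId.ThmCQ.Nsp
open scoped Pointwise

universe u

/-- F3 as a socket. -/
def NormDF : Prop :=
  ∀ (G : Type u) [Group G] [Finite G] (S : Sylow 2 G) (P H : Subgroup G) (F : Type) [Field F] [Finite F]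
    [CharP F 2], BigA S P H F 1 →
      ∀ M : NatK F (S : Subgroup G) P (zl (S : Subgroup G) P) (cv (S : Subgroup G) P) 1,
        ¬ Splits (S : Subgroup G) P (cv (S : Subgroup G) P) →
          ¬ (∀ x : F, ∃ z ∈ zc (S : Subgroup G), M.e z 0 = ![x, 0]) →
            ∀ (_ : Sit F S P 1) (g : F → G), IsG M g →
              ∀ x ∈ normalizer (Zp M : Set G), MulAut.conj x • cv (S : Subgroup G) P = cv (S : Subgroup G) P

theorem nsF_of (h3 : NormDF.{u}) : RTreeA.NsF.{u} := by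
  intro G _ _ S P H F _ _ _ h M hS hx
  have q : Sit F S P 1 := sit_of h
  obtain ⟨g, hg⟩ := exists_isG (M := M.toNatK) q
  have L : Four M.toNatK g :=
    Four.of h.data q hg (exists_ne q hg hS) (h3 G S P H F h M.toNatK hS hx q g hg)
  exact InstF.false_of L (hypM_of h) (inf_ne h hS)

/-- **`NsF`**: `V_P` natural `SL₂(F)`, not split, `|Z/C_Z(P)| < |F|`. -/
theorem nsF : RTreeA.NsF.{u} :=
  nsF_of fun _ _ _ _ _ _ _ _ _ _ h _ _ hx q _ hg => NsF.norm_D q hg (hypM_of h) hx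

end Cfsg.Agent.Omega.NOThreeL.RF
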