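import Cfsg.Agent.Omega.NOThreeL.RF.Lvl

/-!
# NO-3L, `R ∩ (A)`, `k = 1`, fields (`NsF`): `V = [V, O²(P)] E` in coordinates, `D = g(F) E`

`M : NatK F S P V D 1`, `g : F → D` with `[v, s] = (x₁(v) β(s), g(x₁(v)² β(s)))` (`IsG M g`).

* `exists_PL_S` : `P = P^L S`;
* `cm_mem_sup` : `[v, s] ∈ R · g(F)` for `v ∈ V`, `s ∈ S₀`;
* **`exists_g`** : every `d ∈ D` is `g(x) e` with `e ∈ D ∩ Z`.
-/

set_option autoImplicit false
set_option linter.unusedSectionVars false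
set_option linter.unusedVariables false

namespace Cfsg.Agent.Omega.NOThreeL.RF

open Subgroup Cfsg Cfsg.Agent.Omega.MinPar
open Cfsg.Agent.ZN (zc zl o2)
open Cfsg.Agent.Omega.Frame
open Cfsg.Agent.Omega.NoFF.Basic (conj_conj mem_conj conj_le_iff conj_le_centralizer comm_symm comm_mono)
open Cfsg.Agent.MinSimple.VModule (zl_le zc_le_zl le_normalizer_zl zc_le o2_isPGroup le_normalizer_o2 le_o2
  normalizer_le_normalizer_zc mem_zc)
open Cfsg.Agent.Omega.NOThreeL (mem_normalizer_of_conj_eq le_normalizer_of mem_sup_of_comm)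
open Cfsg.Agent.Omega.NOThreeL.RTools (cm cm_def conj_mem_of_mem)
open Cfsg.Agent.Omega.FFThm (NatK ActsSL)
open Cfsg.Agent.Omega.FrameFF (cv)
open Cfsg.Agent.Omega.HOne (cv_le conj_mem_zl conj_mem_cv)
open Cfsg.Agent.Omega.IId.Ns (Al Mv one1 one1_same one1_ne exists_omega)
open Cfsg.Agent.Omega.IId.ThmCQ.Nsp
open Cfsg.Agent.Lib.SL2Mat
open Cfsg.Agent.Omega.NatPair (ap ap_mul ap_one ap_inv_ap)
open scoped Pointwise

universe u

variable {G : Type u} [Group G] [Finite G] {F : Type} [Field F] [Finite F] [CharP F 2] {S : Sylow 2 G} {P : Subgroup G}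
variable {M : NatK F (S : Subgroup G) P (zl (S : Subgroup G) P) (cv (S : Subgroup G) P) 1} (q : Sit F S P 1)

/-! ### `P = P^L S` -/

theorem exists_PL_S (hSP : (S : Subgroup G) ≤ P) {x : G} (hx : x ∈ P) :
    ∃ y ∈ PL M, ∃ s ∈ (S : Subgroup G), x = y * s := by
  have h1 : P ≤ PL M ⊔ (S : Subgroup G) := M.gen _ le_sup_right fun h hh A hA =>
    (le_sup_left : PL M ≤ PL M ⊔ (S : Subgroup G)) ⟨hh, A, hA⟩
  have h2 : x ∈ ((PL M ⊔ (S : Subgroup G) : Subgroup G) : Set G) := h1 hx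
  rw [coe_mul_of_right_le_normalizer_left _ _ (hSP.trans PL_normal)] at h2
  obtain ⟨y, hy, s, hs, rfl⟩ := Set.mem_mul.mp h2
  exact ⟨y, hy, s, hs, rfl⟩

/-- `D ∩ Z` is centralised by `P` -/
theorem DZ_cent (M : NatK F (S : Subgroup G) P (zl (S : Subgroup G) P) (cv (S : Subgroup G) P) 1)
    (hSP : (S : Subgroup G) ≤ P) {d x : G} (hd : d ∈ cv (S : Subgroup G) P)
    (hz : d ∈ zc (S : Subgroup G)) (hx : x ∈ P) : x * d * x⁻¹ = d := by
  obtain ⟨y, ⟨hy, A, hA⟩, s, hs, rfl⟩ := exists_PL_S (M := M) hSP hx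
  calc y * s * d * (y * s)⁻¹ = y * (s * d) * s⁻¹ * y⁻¹ := by group
    _ = (y * d) * y⁻¹ := by rw [(mem_zc.1 hz).2.1 s hs]; group
    _ = d := by rw [hA.2 d hd, mul_inv_cancel_right]

/-! ### `g` -/

theorem IsG.zero {g : F → G} (hg : IsG M g) : g 0 = 1 := by
  have h1 := hg.add 0 0
  rw [add_zero] at h1
  exact left_eq_mul.1 h1

include q in
/-- `g(F) E` -/
def Dg {g : F → G} (hg : IsG M g) : Subgroup G where
  carrier := {d | ∃ x : F, ∃ e ∈ cv (S : Subgroup G) P ⊓ zc (S : Subgroup G), d = g x * e}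
  one_mem' := ⟨0, 1, one_mem _, by rw [hg.zero, mul_one]⟩
  mul_mem' := by
    rintro _ _ ⟨x, e, he, rfl⟩ ⟨y, f, hf, rfl⟩
    refine ⟨x + y, e * f, mul_mem he hf, ?_⟩
    rw [hg.add]
    have h1 : e * g y = g y * e := V_comm q (cv_le _ _ he.1) (cv_le _ _ (hg.mem y))
    calc g x * e * (g y * f) = g x * (e * g y) * f := by group
      _ = g x * (g y * e) * f := by rw [h1]
      _ = _ := by group
  inv_mem' := by
    rintro _ ⟨x, e, he, rfl⟩
    refine ⟨x, e, he, invV q (mul_mem (cv_le _ _ (hg.mem x)) (cv_le _ _ he.1))⟩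

section main

variable {g : F → G} (hg : IsG M g)
include q hg

theorem g_mem_Dg (x : F) : g x ∈ Dg q hg := ⟨x, 1, one_mem _, by rw [mul_one]⟩

theorem Dg_le : Dg q hg ≤ cv (S : Subgroup G) P := by
  rintro _ ⟨x, e, he, rfl⟩
  exact mul_mem (hg.mem x) he.1

/-- `[v, s] = r · g(x₁(v)² β(s))`, `r ∈ R` -/
theorem exists_cm {v s : G} (hv : v ∈ zl (S : Subgroup G) P) (hs : s ∈ LS M) :
    ∃ r ∈ Rt M, M.e r 0 0 = M.e v 0 1 * bet M s ∧ cm v s = r * g (M.e v 0 1 ^ 2 * bet M s) := by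
  obtain ⟨h1, h2⟩ := e_cm q hv hs
  have h3 := mul_eps q h1
  have h4 := eps_mem q h1
  rw [hg.br v hv s hs] at h3 h4
  refine ⟨_, h3, ?_, ?_⟩
  · rw [e_add h1.1 (cv_le _ _ h4), h2, e_D h4, add_zero]
  · rw [mul_assoc, V_sq q (cv_le _ _ h4), mul_one]

theorem cm_mem_sup {v s : G} (hv : v ∈ zl (S : Subgroup G) P) (hs : s ∈ LS M) : cm v s ∈ Rt M ⊔ Dg q hg := by
  obtain ⟨r, hr, -, h⟩ := exists_cm q hg hv hs
  rw [h]
  exact mul_mem ((le_sup_left : Rt M ≤ _) hr) ((le_sup_right : Dg q hg ≤ _) (g_mem_Dg q hg _))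

/-- the conjugates of `R` -/
theorem conj_R_mem {n : G} (hn : n ∈ P)
    (hnA : ActsSL M.e (zl (S : Subgroup G) P) (cv (S : Subgroup G) P) n fun _ => wm 1 one_ne_zero) {x : G} (hx : x ∈ P)
    {r : G} (hr : r ∈ Rt M) : x * r * x⁻¹ ∈ MulAut.conj n • Rt M ⊔ (Rt M ⊔ Dg q hg) := by
  obtain ⟨y, ⟨hy, A, hA⟩, s, hs, rfl⟩ := exists_PL_S (M := M) q.h.le hx
  have hr' : s * r * s⁻¹ ∈ Rt M := conj_mem_of_mem (S_norm_R q hs) hr
  have e1 : y * s * r * (y * s)⁻¹ = y * (s * r * s⁻¹) * y⁻¹ := by group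
  rw [e1]
  generalize s * r * s⁻¹ = r' at hr'
  have hA0 : A = fun _ => A 0 := funext fun i => by rw [Fin.eq_zero i]
  rw [hA0] at hA
  by_cases h0 : ent (A 0) 1 0 = 0
  · exact (le_sup_left.trans le_sup_right : Rt M ≤ _) (tri_norm_R q hy h0 hA hr')
  · -- `A 0 = up a * w * B'`
    obtain ⟨t, ht, hta⟩ := bet_surj (M := M) q (ent (A 0) 0 0 / ent (A 0) 1 0)
    have htA := bet_LS q ht
    rw [hta] at htA
    have htP := q.h.le ht.1
    have h1 := IId.Ns.acts_mul M (inv_mem hn) (mul_mem (inv_mem htP) hy) (IId.Ns.acts_inv M hn hnA)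
      (IId.Ns.acts_mul M (inv_mem htP) hy (IId.Ns.acts_inv M htP htA) hA)
    have hB : ent ((wm 1 one_ne_zero)⁻¹ * ((up (ent (A 0) 0 0 / ent (A 0) 1 0))⁻¹ * A 0)) 1 0 = 0 := by
      rw [up_inv, ent_inv (wm (1 : F) one_ne_zero), ent_mul, ent_mul, ent_mul, mk_10, mk_11, up_00, up_01, up_10,
        up_11, wm_00, wm_10]
      field_simp
      ring
    have h2 := tri_norm_R q (mul_mem (inv_mem hn) (mul_mem (inv_mem htP) hy)) hB h1 hr'
    obtain ⟨r'', hr''⟩ : ∃ r'', r'' = n⁻¹ * (t⁻¹ * y) * r' * (n⁻¹ * (t⁻¹ * y))⁻¹ := ⟨_, rfl⟩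
    rw [← hr''] at h2
    have e2 : y * r' * y⁻¹ = t * (n * r'' * n⁻¹) * t⁻¹ := by rw [hr'']; group
    have hv : n * r'' * n⁻¹ ∈ zl (S : Subgroup G) P := conj_mem_zl hn (R_le_V q h2)
    have h3 := cm_mem_sup q hg hv ht
    have hcV : cm (n * r'' * n⁻¹) t ∈ zl (S : Subgroup G) P := (e_cm q hv ht).1.1
    have e3 : t * (n * r'' * n⁻¹) * t⁻¹ = (n * r'' * n⁻¹) * cm (n * r'' * n⁻¹) t := by
      have h4 := invV q hcV
      have h5 : t * (n * r'' * n⁻¹) * t⁻¹ = (cm (n * r'' * n⁻¹) t)⁻¹ * (n * r'' * n⁻¹) := by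
        rw [cm_def]; group
      rw [h5, h4, V_comm q hcV hv]
    rw [e2, e3]
    refine mul_mem ((le_sup_left : MulAut.conj n • Rt M ≤ _) ?_) ((le_sup_right : Rt M ⊔ Dg q hg ≤ _) h3)
    rw [mem_conj]
    have e4 : n⁻¹ * (n * r'' * n⁻¹) * n = r'' := by group
    rwa [e4]

/-- **`D = g(F) E`** -/
theorem exists_g {d : G} (hd : d ∈ cv (S : Subgroup G) P) :
    ∃ x : F, ∃ e ∈ cv (S : Subgroup G) P ⊓ zc (S : Subgroup G), d = g x * e := by
  obtain ⟨n, hn, hnA⟩ := M.lift fun _ => wm (1 : F) one_ne_zero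
  -- `V ≤ W`
  have hV : zl (S : Subgroup G) P ≤ MulAut.conj n • Rt M ⊔ (Rt M ⊔ Dg q hg) := by
    refine NoFF.Basic.V_le (Z := zc (S : Subgroup G)) fun k hk y hy => ?_
    rw [mem_conj] at hy
    obtain ⟨z, hz⟩ : ∃ z, z = k⁻¹ * y * k := ⟨_, rfl⟩
    rw [← hz] at hy
    have hzp : z ∈ Zp M := Z_le_Zp q hy
    have h1 := mul_eps q hzp
    have h2 := eps_mem q hzp
    have h3 : eps M z ∈ zc (S : Subgroup G) := mem_zc.2 ⟨V_le_S q (cv_le _ _ h2), fun s hs => by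
      have h4 := eps_S q hs hzp
      rw [(mem_zc.1 hy).2.1 s hs, mul_inv_cancel_right] at h4
      exact (eq_mul_inv_iff_mul_eq.1 h4).symm, by rw [pow_two, V_sq q (cv_le _ _ h2)]⟩
    have h5 := DZ_cent M q.h.le h2 h3 hk
    have e1 : y = (k * (z * eps M z) * k⁻¹) * eps M z := by
      have e2 : k * (z * eps M z) * k⁻¹ = (k * z * k⁻¹) * (k * eps M z * k⁻¹) := by group
      rw [e2, h5, mul_assoc, V_sq q (cv_le _ _ h2), mul_one, hz]
      group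
    rw [e1]
    exact mul_mem (conj_R_mem q hg hn hnA hk h1) ((le_sup_right.trans le_sup_right : Dg q hg ≤ _)
      ⟨0, _, mem_inf.2 ⟨h2, h3⟩, by rw [hg.zero, one_mul]⟩)
  have hRV : MulAut.conj n • Rt M ≤ zl (S : Subgroup G) P := by
    intro x hx
    rw [mem_conj] at hx
    have := conj_mem_zl (S := (S : Subgroup G)) hn (R_le_V q hx)
    have e : n * (n⁻¹ * x * n) * n⁻¹ = x := by group
    rwa [e] at this
  have hDV : Dg q hg ≤ zl (S : Subgroup G) P := (Dg_le q hg).trans (cv_le _ _)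
  have h1 := hV (cv_le _ _ hd)
  obtain ⟨a, ha, b, hb, hab⟩ := mem_sup_of_comm (fun x hx => mem_centralizer_iff.2 fun y hy =>
    V_comm q ((sup_le (R_le_V q) hDV : Rt M ⊔ Dg q hg ≤ _) hy) (hRV hx)) h1
  obtain ⟨r, hr, d', hd', hrd⟩ := mem_sup_of_comm (fun x hx => mem_centralizer_iff.2 fun y hy =>
    V_comm q (hDV hy) (R_le_V q hx)) hb
  have ha' : n⁻¹ * a * n ∈ Rt M := mem_conj.1 ha
  have hrV := R_le_V q hr
  have hdD := Dg_le q hg hd'
  have hdV := cv_le _ _ hdD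
  have haV := hRV ha
  have ea : a = n * (n⁻¹ * a * n) * n⁻¹ := by group
  have h2 : M.e a 0 1 = - M.e (n⁻¹ * a * n) 0 0 := by
    conv_lhs => rw [ea]
    rw [hnA.1 _ (R_le_V q ha') 0, NatPair.ap_one', wm_10, wm_11, (R_le_Zp q ha').2]
    simp
  have h3 : M.e d 0 1 = M.e a 0 1 := by
    rw [← hab, ← hrd, e_add haV (mul_mem hrV hdV), e_add hrV hdV, (R_le_Zp q hr).2, e_D hdD, add_zero, add_zero]
  have h4 : n⁻¹ * a * n = 1 := by
    refine R_eq_one q ha' ?_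
    rw [h2, e_D hd] at h3
    exact neg_eq_zero.1 h3.symm
  have h5 : a = 1 := by rw [ea, h4]; group
  have h6 : M.e d 0 0 = M.e r 0 0 := by
    rw [← hab, ← hrd, h5, one_mul, e_add hrV hdV, e_D hdD, add_zero]
  have h7 : r = 1 := R_eq_one q hr (by rw [← h6, e_D hd])
  rw [h5, one_mul] at hab
  rw [h7, one_mul] at hrd
  rw [← hab, ← hrd]
  exact hd'

end main

end Cfsg.Agent.Omega.NOThreeL.RF
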