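import Cfsg.Agent.Omega.NOThreeL.RF.Semi
import Cfsg.Agent.Omega.NOThreeL.RF.Lvl

/-!
# NO-3L, `R ∩ (A)`, field automorphisms (NsF), (GD): the elements of `A = Ω₁(Z(O₂(P)))` of natural type (helper71)

`q : Sit F S P 1`, `M : NatK F S P (zl S P) (cv S P) 1`.

* `XA M` = the elements `a ∈ A` fixed by the root group and additive under the torus
  (`[dg (l + m)] a = [dg l] a * [dg m] a`); an `F`-space on which `S` acts semilinearly, `S₀` trivially;
* **`XA_le`** : `XA M ≤ V` (Galois descent);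
* **`cent_Nc_of_comm`** : a 2-element `w` of `N_G(O₂(P))` which commutes modulo `O₂(P)` with a lift of every element of
  `SL₂(F)` centralises `N = Nc M 0`.
-/

set_option autoImplicit false
set_option linter.unusedSectionVars false
set_option linter.unusedVariables false

namespace Cfsg.Agent.Omega.NOThreeL.RF.GD

open Subgroup Cfsg Cfsg.Agent.Omega.MinPar
open Cfsg.Agent.ZN (zc zl o2)
open Cfsg.Agent.Omega.FrameFF Cfsg.Agent.Omega.FFThm Cfsg.Agent.Lib.SL2Mat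
open Cfsg.Agent.Omega.NatPair (ap ap_add ap_mul ap_one ap_inj ext2 ap_zero' ap_one' ap_inv_ap ap_ap_inv)
open Cfsg.Agent.Omega.HOne (cv_le conj_mem_zl conj_mem_cv)
open Cfsg.Agent.Omega.IId.Cv Cfsg.Agent.Omega.IId.Ns
open Cfsg.Agent.Omega.IId.ThmCQ.Nsp (Sit LS mem_LS exists_b S_le_normalizer_LS o2_le_LS exists_norm)
open Cfsg.Agent.MinSimple.VModule (zc_comm zc_sq zc_le mem_zc le_normalizer_o2 normalizer_le_normalizer_zc zc_le_zl
  o2_isPGroup o2_le)

universe u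

attribute [local instance] aqComm

section X

variable {G : Type u} [Group G] [Finite G] {F : Type} [Field F] [Finite F] [CharP F 2] {S : Sylow 2 G}
  {P : Subgroup G} (M : NatK F (S : Subgroup G) P (zl (S : Subgroup G) P) (cv (S : Subgroup G) P) 1)

/-- the elements of natural type -/
def XA : Subgroup ↥(zc (o2 P)) where
  carrier := {a | (∀ c : F, rh S M 0 (up c) a = a) ∧
    ∀ (l m : F) (hl : l ≠ 0) (hm : m ≠ 0) (hlm : l + m ≠ 0),
      rh S M 0 (dg (l + m) hlm) a = rh S M 0 (dg l hl) a * rh S M 0 (dg m hm) a}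
  one_mem' := ⟨fun c => map_one _, fun l m hl hm hlm => by rw [map_one, map_one, map_one, mul_one]⟩
  mul_mem' := by
    rintro a b ⟨ha, ha'⟩ ⟨hb, hb'⟩
    refine ⟨fun c => by rw [map_mul, ha, hb], fun l m hl hm hlm => ?_⟩
    rw [map_mul, map_mul, map_mul, ha' l m hl hm hlm, hb' l m hl hm hlm, mul_mul_mul_comm]
  inv_mem' := by
    rintro a ⟨ha, ha'⟩
    refine ⟨fun c => by rw [map_inv, ha], fun l m hl hm hlm => ?_⟩
    rw [map_inv, map_inv, map_inv, ha' l m hl hm hlm, mul_inv]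

variable {M}

theorem mem_XA {a : ↥(zc (o2 P))} : a ∈ XA M ↔ (∀ c : F, rh S M 0 (up c) a = a) ∧
    ∀ (l m : F) (hl : l ≠ 0) (hm : m ≠ 0) (hlm : l + m ≠ 0),
      rh S M 0 (dg (l + m) hlm) a = rh S M 0 (dg l hl) a * rh S M 0 (dg m hm) a := Iff.rfl

variable (q : Sit F S P 1)

include q

/-- an element of `P` acting as `up c` fixes `XA` -/
theorem XA_fix {a : ↥(zc (o2 P))} (ha : a ∈ XA M) {x : G} {c : F} (hx : Al M 0 x (up c)) : x * a * x⁻¹ = (a : G) := by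
  rw [← rh_val q.hG S q.h q.hk M hx a, ha.1 c]

/-- `S₀` fixes `XA` -/
theorem XA_fix_SL {a : ↥(zc (o2 P))} (ha : a ∈ XA M) {s : G} (hs : s ∈ SL M) : s * a * s⁻¹ = (a : G) := by
  obtain ⟨-, b, hb⟩ := hs
  exact XA_fix q ha hb

/-- the torus preserves `XA` -/
theorem XA_dg {a : ↥(zc (o2 P))} (ha : a ∈ XA M) {l : F} (hl : l ≠ 0) : rh S M 0 (dg l hl) a ∈ XA M := by
  have hmul := rh_mul q.hG S q.h q.hk M 0
  refine ⟨fun c => ?_, fun l' m' hl' hm' hlm => ?_⟩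
  · have e : (up c : Matrix.SpecialLinearGroup (Fin 2) F) * dg l hl = dg l hl * up (c / l ^ 2) := by
      rw [dg_up]
      congr 2
      field_simp
    rw [← hmul, e, hmul, ha.1]
  · have e : ∀ (m : F) (hm : m ≠ 0), rh S M 0 (dg m hm) (rh S M 0 (dg l hl) a) =
        rh S M 0 (dg l hl) (rh S M 0 (dg m hm) a) := by
      intro m hm
      rw [← hmul, ← hmul, dg_mul_dg, dg_mul_dg]
      congr 2
      apply ext_ent <;> simp [mul_comm]
    rw [e, e, e, ha.2 l' m' hl' hm' hlm, map_mul]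

/-- `S` acts on `XA`, semilinearly -/
theorem XA_conj_dg {a : ↥(zc (o2 P))} {s : G} (hs : s ∈ (S : Subgroup G)) {τ : F ≃+* F} (hτ : Semi M s τ)
    (hu : ∀ c : F, rh S M 0 (up c) (cA (q.h.le hs) a) = cA (q.h.le hs) a) {l : F} (hl : l ≠ 0) :
    cA (q.h.le hs) (rh S M 0 (dg l hl) a) = rh S M 0 (dg (τ l) (by simpa using hl)) (cA (q.h.le hs) a) := by
  have hsP := q.h.le hs
  have ht := lf_spec S M 0 (dg l hl)
  obtain ⟨c, hc⟩ := hτ.conj_dg q.h.le hs hl ht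
  have h1 : cA hsP (rh S M 0 (dg l hl) a) = rh S M 0 (dg (τ l) (by simpa using hl) * up c) (cA hsP a) := by
    apply Subtype.ext
    rw [rh_val q.hG S q.h q.hk M hc, cA_val, cA_val, rh_val q.hG S q.h q.hk M ht]
    group
  rw [h1, rh_mul q.hG S q.h q.hk, hu]

/-- the conjugates of a vector fixed by the root group -/
theorem up_conj {a : ↥(zc (o2 P))} (ha : ∀ c : F, rh S M 0 (up c) a = a) {s : G} (hs : s ∈ (S : Subgroup G)) (c : F) :
    rh S M 0 (up c) (cA (q.h.le hs) a) = cA (q.h.le hs) a := by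
  obtain ⟨t, ht, htc⟩ := M.unip fun _ => c
  have htA : Al M 0 t (up c) := Al_iff.2 ⟨q.h.le ht, htc⟩
  have h1 : s⁻¹ * t * s ∈ LS M := by
    have := (mem_normalizer_iff.1 (inv_mem (S_le_normalizer_LS (M := M) q.h.le hs)) t).1 (mem_LS q.h.le ht htc)
    rwa [inv_inv] at this
  obtain ⟨b, hb⟩ := exists_b q.h.le h1
  have h2 : Al M 0 (s⁻¹ * t * s) (up (b 0)) := by
    refine Al_iff.2 ⟨q.h.le h1.1, ?_⟩
    have e : (fun i => up (b i)) = fun _ : Fin 1 => (up (b 0) : Matrix.SpecialLinearGroup (Fin 2) F) :=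
      funext fun i => by rw [Fin.eq_zero i]
    rwa [e] at hb
  have h3 : s⁻¹ * t * s * a * (s⁻¹ * t * s)⁻¹ = (a : G) := by
    rw [← rh_val q.hG S q.h q.hk M h2 a, ha]
  apply Subtype.ext
  rw [rh_val q.hG S q.h q.hk M htA, cA_val]
  calc t * (s * (a : G) * s⁻¹) * t⁻¹ = s * (s⁻¹ * t * s * a * (s⁻¹ * t * s)⁻¹) * s⁻¹ := by group
    _ = s * a * s⁻¹ := by rw [h3]

theorem XA_conj {a : ↥(zc (o2 P))} (ha : a ∈ XA M) {s : G} (hs : s ∈ (S : Subgroup G)) :
    cA (q.h.le hs) a ∈ XA M := by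
  obtain ⟨τ, hτ⟩ := Semi.exists (M := M) q.h.le hs
  have hu := up_conj q ha.1 hs
  refine ⟨hu, fun l m hl hm hlm => ?_⟩
  have hl' : τ.symm l ≠ 0 := by simpa using hl
  have hm' : τ.symm m ≠ 0 := by simpa using hm
  have hlm' : τ.symm l + τ.symm m ≠ 0 := by
    rw [← map_add]
    exact (map_ne_zero τ.symm).2 hlm
  have h1 := XA_conj_dg q hs hτ (a := a) hu hl'
  have h2 := XA_conj_dg q hs hτ (a := a) hu hm'
  have h3 := XA_conj_dg q hs hτ (a := a) hu hlm'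
  rw [ha.2 _ _ hl' hm' hlm', map_mul, h1, h2] at h3
  have e : ∀ (x y : F) (hx : x ≠ 0) (hy : y ≠ 0), x = y →
      rh S M 0 (dg x hx) (cA (q.h.le hs) a) = rh S M 0 (dg y hy) (cA (q.h.le hs) a) := by
    intro x y hx hy hxy
    subst hxy
    rfl
  have e1 := e (τ (τ.symm l)) l (by simpa using hl) hl (by simp)
  have e2 := e (τ (τ.symm m)) m (by simpa using hm) hm (by simp)
  have e3 := e (τ (τ.symm l + τ.symm m)) (l + m) ((map_ne_zero τ).2 hlm') hlm (by simp)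
  rw [e1, e2, e3] at h3
  exact h3.symm

/-! ### the `F`-space -/

open Classical in
/-- scalar multiplication -/
noncomputable def sm (l : F) : ↥(XA M) →* ↥(XA M) :=
  if hl : l = 0 then 1 else
    { toFun := fun a => ⟨rh S M 0 (dg l hl) a, XA_dg q a.2 hl⟩
      map_one' := Subtype.ext (map_one _)
      map_mul' := fun a b => Subtype.ext (map_mul _ _ _) }

theorem sm_zero (a : ↥(XA M)) : sm q (0 : F) a = 1 := by rw [sm, dif_pos rfl]; rfl

theorem sm_val {l : F} (hl : l ≠ 0) (a : ↥(XA M)) :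
    ((sm q l a : ↥(XA M)) : ↥(zc (o2 P))) = rh S M 0 (dg l hl) a := by rw [sm, dif_neg hl]; rfl

theorem XA_sq (a : ↥(XA M)) : a * a = 1 := Subtype.ext (A_sq _)

/-- the `F`-space structure -/
@[reducible] noncomputable def xMod : Module F (Additive ↥(XA M)) where
  smul l a := Additive.ofMul (sm q l a.toMul)
  one_smul a := by
    show Additive.ofMul (sm q (1 : F) a.toMul) = a
    have h1 : sm q (1 : F) a.toMul = a.toMul := by
      apply Subtype.ext
      rw [sm_val q one_ne_zero]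
      have e : (dg 1 one_ne_zero : Matrix.SpecialLinearGroup (Fin 2) F) = 1 := by apply ext_ent <;> simp
      rw [e, rh_one q.hG S q.h q.hk]
    rw [h1]; rfl
  mul_smul l m a := by
    show Additive.ofMul (sm q (l * m) a.toMul) = Additive.ofMul (sm q l (sm q m a.toMul))
    congr 1
    by_cases hl : l = 0
    · rw [hl, zero_mul, sm_zero, sm_zero]
    by_cases hm : m = 0
    · rw [hm, mul_zero, sm_zero, map_one]
    apply Subtype.ext
    rw [sm_val q (mul_ne_zero hl hm), sm_val q hl, sm_val q hm, ← rh_mul q.hG S q.h q.hk, dg_mul_dg]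
  smul_zero l := by
    show Additive.ofMul (sm q l 1) = 0
    rw [map_one]; rfl
  smul_add l a b := by
    show Additive.ofMul (sm q l (a.toMul * b.toMul)) = _
    rw [map_mul]; rfl
  add_smul l m a := by
    show Additive.ofMul (sm q (l + m) a.toMul) = Additive.ofMul (sm q l a.toMul * sm q m a.toMul)
    congr 1
    by_cases hl : l = 0
    · rw [hl, zero_add, sm_zero, one_mul]
    by_cases hm : m = 0
    · rw [hm, add_zero, sm_zero, mul_one]
    by_cases hlm : l + m = 0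
    · rw [hlm, sm_zero]
      have h1 : m = l := (CharTwo.add_eq_zero.1 hlm).symm
      rw [h1, XA_sq q]
    apply Subtype.ext
    show _ = ((sm q l a.toMul : ↥(XA M)) : ↥(zc (o2 P))) * ((sm q m a.toMul : ↥(XA M)) : ↥(zc (o2 P)))
    rw [sm_val q hlm, sm_val q hl, sm_val q hm]
    exact a.toMul.2.2 l m hl hm hlm
  zero_smul a := by
    show Additive.ofMul (sm q (0 : F) a.toMul) = 0
    rw [sm_zero]; rfl

/-- conjugation by `s ∈ S` -/
def cX {s : G} (hs : s ∈ (S : Subgroup G)) : Additive ↥(XA M) →+ Additive ↥(XA M) where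
  toFun a := Additive.ofMul ⟨cA (q.h.le hs) (a.toMul : ↥(XA M)), XA_conj q a.toMul.2 hs⟩
  map_zero' := by
    show Additive.ofMul _ = Additive.ofMul (1 : ↥(XA M))
    congr 1
    exact Subtype.ext (map_one (cA (q.h.le hs)))
  map_add' a b := by
    show Additive.ofMul _ = Additive.ofMul _
    congr 1
    exact Subtype.ext (map_mul (cA (q.h.le hs)) _ _)

theorem cX_val {s : G} (hs : s ∈ (S : Subgroup G)) (a : Additive ↥(XA M)) :
    (((cX q hs a).toMul : ↥(XA M)) : ↥(zc (o2 P))) = cA (q.h.le hs) (a.toMul : ↥(XA M)) := rfl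

/-- the vectors of `V` -/
noncomputable def VX : @Submodule F (Additive ↥(XA M)) _ _ (xMod q) :=
  letI := xMod (M := M) q
  { carrier := {a | ((a.toMul : ↥(XA M)) : ↥(zc (o2 P))) ∈ VA S P}
    zero_mem' := one_mem (VA S P)
    add_mem' := fun {a b} ha hb => by
      show ((a.toMul * b.toMul : ↥(XA M)) : ↥(zc (o2 P))) ∈ VA S P
      have ha' : ((a.toMul : ↥(XA M)) : ↥(zc (o2 P))) ∈ VA S P := ha
      have hb' : ((b.toMul : ↥(XA M)) : ↥(zc (o2 P))) ∈ VA S P := hb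
      exact mul_mem ha' hb'
    smul_mem' := fun c a ha => by
      show ((sm q c a.toMul : ↥(XA M)) : ↥(zc (o2 P))) ∈ VA S P
      by_cases hc : c = 0
      · rw [hc, sm_zero]; exact one_mem _
      · rw [sm_val q hc]; exact rh_VA S M 0 _ ha }

/-- **`XA ≤ V`** -/
theorem XA_le {a : ↥(zc (o2 P))} (ha : a ∈ XA M) : (a : G) ∈ zl (S : Subgroup G) P := by
  classical
  let _ := xMod (M := M) q
  let ι := ↥(sgHom S q.h M).range
  have hfinE : Finite (F ≃+* F) := Finite.of_injective (fun f : F ≃+* F => (f : F → F)) DFunLike.coe_injective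
  have : Fintype ι := Fintype.ofFinite _
  choose s hs using fun i : ι => MonoidHom.mem_range.1 i.2
  have hsS : ∀ i, ((s i : ↥(S : Subgroup G)) : G) ∈ (S : Subgroup G) := fun i => (s i).2
  let ρ : ι → Additive ↥(XA M) →+ Additive ↥(XA M) := fun i => cX q (hsS i)
  have hsemi : ∀ i, Semi M ((s i : ↥(S : Subgroup G)) : G) (i : F ≃+* F) := by
    intro i
    have h1 := sg_spec S q.h M (s i)
    have h2 : sg S q.h M (s i) = (i : F ≃+* F) := hs i
    rwa [h2] at h1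
  have key := descent (F := F) (X := Additive ↥(XA M)) ρ (fun i => (i : F ≃+* F)) Subtype.val_injective (by
    intro i c x
    show cX q (hsS i) (Additive.ofMul (sm q c x.toMul)) = Additive.ofMul (sm q ((i : F ≃+* F) c) (cX q (hsS i) x).toMul)
    apply Additive.toMul.injective
    apply Subtype.ext
    rw [cX_val]
    by_cases hc : c = 0
    · rw [hc, map_zero]
      show cA (q.h.le (hsS i)) ((sm q (0 : F) x.toMul : ↥(XA M)) : ↥(zc (o2 P))) =
        ((sm q (0 : F) (cX q (hsS i) x).toMul : ↥(XA M)) : ↥(zc (o2 P)))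
      rw [sm_zero, sm_zero]
      exact map_one _
    · have hc' : (i : F ≃+* F) c ≠ 0 := by simpa using hc
      show cA (q.h.le (hsS i)) ((sm q c x.toMul : ↥(XA M)) : ↥(zc (o2 P))) =
        ((sm q ((i : F ≃+* F) c) (cX q (hsS i) x).toMul : ↥(XA M)) : ↥(zc (o2 P)))
      rw [sm_val q hc, sm_val q hc', cX_val]
      exact XA_conj_dg q (hsS i) (hsemi i) (up_conj q x.toMul.2.1 (hsS i)) hc) (VX q) (by
    intro x
    -- the sum is fixed by `S`
    set y : ↥(zc (o2 P)) := (((∑ i, ρ i x).toMul : ↥(XA M)) : ↥(zc (o2 P))) with hy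
    have hyp : y = ∏ i, cA (q.h.le (hsS i)) (x.toMul : ↥(XA M)) := by
      have h1 : y = (XA M).subtype (Additive.toMul (∑ i, ρ i x)) := rfl
      rw [h1, toMul_sum, map_prod]
      rfl
    have hfix : ∀ g (hg : g ∈ (S : Subgroup G)), cA (q.h.le hg) y = y := by
      intro g hg
      let gi : ι := ⟨sgHom S q.h M ⟨g, hg⟩, ⟨⟨g, hg⟩, rfl⟩⟩
      rw [hyp, map_prod]
      refine Fintype.prod_equiv (Equiv.mulLeft gi) _ _ fun i => ?_
      apply Subtype.ext
      show g * (((s i : ↥(S : Subgroup G)) : G) * ((x.toMul : ↥(XA M)) : ↥(zc (o2 P))) * ((s i : ↥(S : Subgroup G)) : G)⁻¹) * g⁻¹ =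
        ((s (gi * i) : ↥(S : Subgroup G)) : G) * ((x.toMul : ↥(XA M)) : ↥(zc (o2 P))) *
          ((s (gi * i) : ↥(S : Subgroup G)) : G)⁻¹
      have h1 : (s (gi * i))⁻¹ * (⟨g, hg⟩ * s i) ∈ (sgHom S q.h M).ker := by
        rw [MonoidHom.mem_ker, map_mul, map_inv, map_mul, hs, hs]
        show ((gi * i : ι) : F ≃+* F)⁻¹ * ((gi : F ≃+* F) * (i : F ≃+* F)) = 1
        rw [show ((gi * i : ι) : F ≃+* F) = (gi : F ≃+* F) * (i : F ≃+* F) from rfl, inv_mul_cancel]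
      rw [ker_sgHom q.hG S q.h M, mem_subgroupOf] at h1
      have h2 := XA_fix_SL q x.toMul.2 h1
      have h3 : ((((s (gi * i))⁻¹ * (⟨g, hg⟩ * s i) : ↥(S : Subgroup G)) : G)) =
        ((s (gi * i) : ↥(S : Subgroup G)) : G)⁻¹ * (g * ((s i : ↥(S : Subgroup G)) : G)) := rfl
      rw [h3] at h2
      set u : G := ((s (gi * i) : ↥(S : Subgroup G)) : G) with hu
      set v : G := ((s i : ↥(S : Subgroup G)) : G) with hv
      set z : G := (((x.toMul : ↥(XA M)) : ↥(zc (o2 P))) : G) with hz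
      calc g * (v * z * v⁻¹) * g⁻¹ = u * (u⁻¹ * (g * v) * z * (u⁻¹ * (g * v))⁻¹) * u⁻¹ := by group
        _ = u * z * u⁻¹ := by rw [h2]
    show y ∈ VA S P
    rw [mem_VA]
    apply Cfsg.Agent.MinSimple.VModule.zc_le_zl
    rw [mem_zc]
    refine ⟨(q.h.isLoc.o2_le S) (zc_le _ y.2), fun g hg => ?_, zc_sq _ _ y.2⟩
    have h1 := congrArg Subtype.val (hfix g hg)
    rw [cA_val] at h1
    exact mul_inv_eq_iff_eq_mul.1 h1)
  have h1 := key 1 (Additive.ofMul ⟨a, ha⟩)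
  have h2 : cA (q.h.le (hsS 1)) a ∈ VA S P := h1
  rw [mem_VA, cA_val] at h2
  have h3 := conj_mem_zl (inv_mem (q.h.le (hsS 1))) h2
  have e : ((s 1 : ↥(S : Subgroup G)) : G)⁻¹ * (((s 1 : ↥(S : Subgroup G)) : G) * (a : G) * ((s 1 : ↥(S : Subgroup G)) : G)⁻¹) *
    ((s 1 : ↥(S : Subgroup G)) : G)⁻¹⁻¹ = a := by group
  rwa [e] at h3

/-! ### `R` and `w` -/

omit q in
theorem Al_dg_one_add {ω : F} (h0 : ω ≠ 0) (h1 : ω ≠ 1) : ω + 1 ≠ 0 := fun h => h1 (CharTwo.add_eq_zero.1 h)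

/-- an additive element of `A` centralised by the torus is trivial -/
theorem eq_one_of_fix {a : ↥(zc (o2 P))} (ha : a ∈ XA M) (hf : ∀ (l : F) (hl : l ≠ 0), rh S M 0 (dg l hl) a = a) :
    a = 1 := by
  obtain ⟨ω, h0, h1⟩ := exists_omega q.hF
  have h2 := ha.2 ω 1 h0 one_ne_zero (Al_dg_one_add h0 h1)
  rw [hf, hf, hf, A_sq] at h2
  exact h2

/-- `R ≤ XA` -/
theorem R_XA {a : ↥(zc (o2 P))} (ha : (a : G) ∈ Rt M) : a ∈ XA M := by
  have haV := R_le_V q ha
  refine ⟨fun c => ?_, fun l m hl hm hlm => ?_⟩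
  · obtain ⟨t, ht, htc⟩ := M.unip fun _ => c
    apply Subtype.ext
    rw [rh_val q.hG S q.h q.hk M (Al_iff.2 ⟨q.h.le ht, htc⟩),
      Zp_comm q (R_le_Zp q ha) (mem_LS q.h.le ht htc), mul_inv_cancel_right]
  · have hx := lf_spec S M 0 (dg l hl)
    have hy := lf_spec S M 0 (dg m hm)
    have hz := lf_spec S M 0 (dg (l + m) hlm)
    apply Subtype.ext
    show ((rh S M 0 (dg (l + m) hlm) a : ↥(zc (o2 P))) : G) =
      ((rh S M 0 (dg l hl) a : ↥(zc (o2 P))) : G) * ((rh S M 0 (dg m hm) a : ↥(zc (o2 P))) : G)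
    rw [rh_val q.hG S q.h q.hk M hx, rh_val q.hG S q.h q.hk M hy, rh_val q.hG S q.h q.hk M hz]
    have hR : ∀ {t : F} {ht : t ≠ 0} {g : G}, Al M 0 g (dg t ht) → g * a * g⁻¹ ∈ Rt M := fun {t ht g} hg =>
      tri_norm_R q hg.1 (by simp) (Al_iff.1 hg).2 ha
    have he : ∀ {t : F} {ht : t ≠ 0} {g : G}, Al M 0 g (dg t ht) → M.e (g * a * g⁻¹) 0 0 = t * M.e (a : G) 0 0 := by
      intro t ht g hg
      rw [hg.same haV, ap_zero']
      simp
    refine R_inj q (hR hz) (mul_mem (hR hx) (hR hy)) ?_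
    rw [e_add (hx.V haV) (hy.V haV), he hx, he hy, he hz]
    ring

/-- `XA ≤ R` -/
theorem XA_R {a : ↥(zc (o2 P))} (ha : a ∈ XA M) : (a : G) ∈ Rt M := by
  have haV := XA_le q ha
  have hZ : (a : G) ∈ Zp M := by
    rw [Zp_eq q]
    refine mem_inf.2 ⟨haV, mem_centralizer_iff.2 fun s hs => ?_⟩
    have h1 := XA_fix q ha (Al_iff.2 ⟨q.h.le hs.1, bet_LS q hs⟩)
    exact mul_inv_eq_iff_eq_mul.1 h1
  obtain ⟨r, hr, d, hd, had⟩ := exists_rd q hZ
  have hrA : r ∈ zc (o2 P) := zl_le_A q.hG S q.h (R_le_V q hr)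
  have hdA : d ∈ zc (o2 P) := zl_le_A q.hG S q.h (cv_le _ _ hd)
  have hrX : (⟨r, hrA⟩ : ↥(zc (o2 P))) ∈ XA M := R_XA q hr
  have hdX : (⟨d, hdA⟩ : ↥(zc (o2 P))) ∈ XA M := by
    have e : (⟨d, hdA⟩ : ↥(zc (o2 P))) = (⟨r, hrA⟩ : ↥(zc (o2 P)))⁻¹ * a := by
      apply Subtype.ext
      show d = r⁻¹ * (a : G)
      rw [had]; group
    rw [e]
    exact mul_mem (inv_mem hrX) ha
  have hd1 := eq_one_of_fix q hdX (fun l hl => by
    have hx := lf_spec S M 0 (dg l hl)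
    apply Subtype.ext
    rw [rh_val q.hG S q.h q.hk M hx]
    show lf S M 0 (dg l hl) * d * (lf S M 0 (dg l hl))⁻¹ = d
    rw [hx.D hd, mul_inv_cancel_right])
  have hd2 : d = 1 := congrArg Subtype.val hd1
  rw [had, hd2, mul_one]
  exact hr

/-- an element of `N_G(O₂(P))` which commutes with `x` modulo `O₂(P)` commutes with `x` on `A` -/
theorem comm_A {w x : G} (hw : w ∈ normalizer (o2 P : Set G)) (hx : x ∈ P) (hc : x * w * x⁻¹ * w⁻¹ ∈ o2 P) {a : G}
    (ha : a ∈ zc (o2 P)) : w * (x * a * x⁻¹) * w⁻¹ = x * (w * a * w⁻¹) * x⁻¹ := by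
  have h1 : x * a * x⁻¹ ∈ zc (o2 P) := A_mem hx ha
  have h2 : w * (x * a * x⁻¹) * w⁻¹ ∈ zc (o2 P) :=
    (mem_normalizer_iff.1 (normalizer_le_normalizer_zc _ hw) _).1 h1
  have h3 := (mem_zc.1 h2).2.1 _ hc
  calc w * (x * a * x⁻¹) * w⁻¹ = (w * (x * a * x⁻¹) * w⁻¹) * (x * w * x⁻¹ * w⁻¹) * (x * w * x⁻¹ * w⁻¹)⁻¹ := by group
    _ = (x * w * x⁻¹ * w⁻¹) * (w * (x * a * x⁻¹) * w⁻¹) * (x * w * x⁻¹ * w⁻¹)⁻¹ := by rw [h3]
    _ = _ := by group

/-- **a 2-element of `N_G(O₂(P))` which commutes with the lifts modulo `O₂(P)` centralises `Nc M 0`** -/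
theorem cent_Nc_of_comm {w : G} (hw : w ∈ normalizer (o2 P : Set G)) {n : ℕ} (hw2 : w ^ 2 ^ n = 1)
    (hc : ∀ B : Matrix.SpecialLinearGroup (Fin 2) F, ∃ x, Al M 0 x B ∧ x * w * x⁻¹ * w⁻¹ ∈ o2 P) :
    w ∈ centralizer (Nc M 0 : Set G) := by
  have hwA : ∀ {a : G}, a ∈ zc (o2 P) → w * a * w⁻¹ ∈ zc (o2 P) := fun {a} ha =>
    (mem_normalizer_iff.1 (normalizer_le_normalizer_zc _ hw) _).1 ha
  -- `w` commutes with all lifts on `A`
  have hcomm : ∀ {B : Matrix.SpecialLinearGroup (Fin 2) F} {y : G}, Al M 0 y B → ∀ {a : G}, a ∈ zc (o2 P) →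
      w * (y * a * y⁻¹) * w⁻¹ = y * (w * a * w⁻¹) * y⁻¹ := by
    intro B y hy a ha
    obtain ⟨x, hx, hxc⟩ := hc B
    rw [Al.eq_A q.hG S q.h q.hk hy hx ha, comm_A q hw hx.1 hxc ha, Al.eq_A q.hG S q.h q.hk hy hx (hwA ha)]
  -- `w R w⁻¹ ≤ R`
  have hR : ∀ r ∈ Rt M, w * r * w⁻¹ ∈ Rt M := by
    intro r hr
    have hrA : r ∈ zc (o2 P) := zl_le_A q.hG S q.h (R_le_V q hr)
    have hrX : (⟨r, hrA⟩ : ↥(zc (o2 P))) ∈ XA M := R_XA q hr
    have hval : ∀ B : Matrix.SpecialLinearGroup (Fin 2) F,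
        ((rh S M 0 B ⟨w * r * w⁻¹, hwA hrA⟩ : ↥(zc (o2 P))) : G) =
          w * ((rh S M 0 B ⟨r, hrA⟩ : ↥(zc (o2 P))) : G) * w⁻¹ := by
      intro B
      have hx := lf_spec S M 0 B
      rw [rh_val q.hG S q.h q.hk M hx, rh_val q.hG S q.h q.hk M hx]
      exact (hcomm hx hrA).symm
    refine XA_R q (a := ⟨w * r * w⁻¹, hwA hrA⟩) ⟨fun c => ?_, fun l m hl hm hlm => ?_⟩
    · apply Subtype.ext
      rw [hval, hrX.1 c]
    · apply Subtype.ext
      rw [hval, hrX.2 l m hl hm hlm]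
      show w * (((rh S M 0 (dg l hl) ⟨r, hrA⟩ : ↥(zc (o2 P))) : G) * ((rh S M 0 (dg m hm) ⟨r, hrA⟩ : ↥(zc (o2 P))) : G)) * w⁻¹ =
        ((rh S M 0 (dg l hl) ⟨w * r * w⁻¹, hwA hrA⟩ : ↥(zc (o2 P))) : G) *
          ((rh S M 0 (dg m hm) ⟨w * r * w⁻¹, hwA hrA⟩ : ↥(zc (o2 P))) : G)
      rw [hval, hval]
      group
  -- the coordinate
  obtain ⟨r1, hr1, he1⟩ := exists_R (M := M) q 1
  set μ : F := M.e (w * r1 * w⁻¹) 0 0 with hμ
  have hcoord : ∀ r ∈ Rt M, M.e (w * r * w⁻¹) 0 0 = M.e r 0 0 * μ := by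
    intro r hr
    by_cases h0 : M.e r 0 0 = 0
    · have h1 := R_eq_one q hr h0
      rw [h1, mul_one, mul_inv_cancel, e_one M]
      simp
    · obtain ⟨y, hy⟩ := exists_Al M 0 (dg (M.e r 0 0) h0)
      have hr1V := R_le_V q hr1
      have h1 : y * r1 * y⁻¹ = r := by
        refine R_inj q (tri_norm_R q hy.1 (by simp) (Al_iff.1 hy).2 hr1) hr ?_
        rw [hy.same hr1V, ap_zero', he1]
        simp
      have h2 := hcomm hy (zl_le_A q.hG S q.h hr1V)
      rw [h1] at h2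
      rw [h2, hy.same (R_le_V q (hR _ hr1)), ap_zero']
      simp [hμ]
  have hpow : ∀ m : ℕ, ∀ r ∈ Rt M, w ^ m * r * (w ^ m)⁻¹ ∈ Rt M ∧ M.e (w ^ m * r * (w ^ m)⁻¹) 0 0 = M.e r 0 0 * μ ^ m := by
    intro m
    induction m with
    | zero => intro r hr; simpa using hr
    | succ m ih =>
      intro r hr
      obtain ⟨h1, h2⟩ := ih r hr
      have e : w ^ (m + 1) * r * (w ^ (m + 1))⁻¹ = w * (w ^ m * r * (w ^ m)⁻¹) * w⁻¹ := by
        rw [pow_succ']; group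
      rw [e]
      refine ⟨hR _ h1, ?_⟩
      rw [hcoord _ h1, h2, pow_succ]
      ring
  have hμ1 : μ = 1 := by
    have h1 := (hpow (2 ^ n) r1 hr1).2
    rw [hw2, one_mul, inv_one, mul_one, he1, one_mul] at h1
    have h4 : (μ - 1) ^ 2 ^ n = 0 := by rw [sub_pow_char_pow, one_pow, ← h1, sub_self]
    exact sub_eq_zero.1 (pow_eq_zero_iff (by positivity) |>.1 h4)
  have hwR : ∀ r ∈ Rt M, w * r * w⁻¹ = r := by
    intro r hr
    refine R_inj q (hR r hr) hr ?_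
    rw [hcoord r hr, hμ1, mul_one]
  -- `Nc`
  rw [mem_centralizer_iff]
  intro v hv
  have key : w * v * w⁻¹ = v := by
    induction hv using closure_induction with
    | mem v hv =>
      obtain ⟨y, hy, v, hv, rfl⟩ := hv
      obtain ⟨B, hB⟩ := exists_of_Fc hy
      by_cases h0 : M.e v 0 = 0
      · rw [fix_ker q.hG S q.h q.hk q.hF hB hv h0]
        group
      · obtain ⟨C, hC⟩ := NatPair.exists_ap (x := ![(1 : F), 0]) (y := M.e v 0) (by
          intro h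
          have := congrFun h 0
          simp at this) h0
        obtain ⟨g, hg⟩ := exists_Al M 0 C
        have hr1V := R_le_V q hr1
        have hr1A := zl_le_A q.hG S q.h hr1V
        have h1 : M.e v 0 = M.e (g * r1 * g⁻¹) 0 := by
          rw [hg.same hr1V, ← hC]
          congr 1
          exact (ext2 he1 (R_le_Zp q hr1).2).symm
        have h2 := comm_eq q.hG S q.h q.hk q.hF hB hv (hg.V hr1V) h1
        have h3 : w * (g * r1 * g⁻¹) * w⁻¹ = g * r1 * g⁻¹ := by rw [hcomm hg hr1A, hwR _ hr1]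
        have h4 : w * (y * (g * r1 * g⁻¹) * y⁻¹) * w⁻¹ = y * (g * r1 * g⁻¹) * y⁻¹ := by
          rw [hcomm hB (A_mem hg.1 hr1A), h3]
        rw [h2]
        calc w * (y * (g * r1 * g⁻¹) * y⁻¹ * (g * r1 * g⁻¹)⁻¹) * w⁻¹
            = (w * (y * (g * r1 * g⁻¹) * y⁻¹) * w⁻¹) * (w * (g * r1 * g⁻¹) * w⁻¹)⁻¹ := by group
          _ = _ := by rw [h4, h3]
    | one => group
    | mul a b _ _ ha hb =>
      calc w * (a * b) * w⁻¹ = (w * a * w⁻¹) * (w * b * w⁻¹) := by group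
        _ = a * b := by rw [ha, hb]
    | inv a _ ha =>
      calc w * a⁻¹ * w⁻¹ = (w * a * w⁻¹)⁻¹ := by group
        _ = a⁻¹ := by rw [ha]
  exact (mul_inv_eq_iff_eq_mul.1 key).symm

end X

end Cfsg.Agent.Omega.NOThreeL.RF.GD
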