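import Mathlib.FieldTheory.Fixed
import Mathlib.LinearAlgebra.LinearIndependent.Lemmas
import Mathlib.Algebra.CharP.Algebra
import Mathlib.Algebra.Algebra.ZMod
import Mathlib.FieldTheory.Finite.Basic
import Mathlib.GroupTheory.GroupAction.Quotient

/-!
# NO-3L, `R ∩ (A)`, field automorphisms (NsF): three pure lemmas for (GD) of #21360 (helper71)

* `descent` : Galois descent: semilinear additive maps `ρ i`, `i ∈ ι`, with different field automorphisms; if all
  `∑ i, ρ i x` lie in the subspace `R`, then all `ρ i x` lie in `R`;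
* `card_lt_two_pow` : an abelian group acting faithfully on a nonempty finite set `Ω` has order `< 2 ^ |Ω|`;
* `two_pow_card_aut_le` : `2 ^ |Aut F| ≤ |F|` for a finite field of characteristic 2.
-/

set_option autoImplicit false

namespace Cfsg.Agent.Omega.NOThreeL.RF.GD

/-- **Galois descent.** -/
theorem descent {F X ι : Type*} [Field F] [AddCommGroup X] [Module F X] [Fintype ι] (ρ : ι → X →+ X)
    (σ : ι → F ≃+* F) (hσ : Function.Injective σ) (hs : ∀ i c x, ρ i (c • x) = σ i c • ρ i x)
    (R : Submodule F X) (ht : ∀ x, ∑ i, ρ i x ∈ R) (i : ι) (x : X) : ρ i x ∈ R := by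
  by_contra hx
  obtain ⟨φ, hφ, hφR⟩ := Submodule.exists_le_ker_of_notMem hx
  have h1 : ∀ c : F, ∑ j, φ (ρ j x) * σ j c = 0 := by
    intro c
    have h2 : φ (∑ j, ρ j (c • x)) = 0 := hφR (ht (c • x))
    rw [map_sum] at h2
    rw [← h2]
    refine Finset.sum_congr rfl fun j _ => ?_
    rw [hs, map_smul, smul_eq_mul, mul_comm]
  let f : ι → F →* F := fun j => (σ j : F →* F)
  have hf : Function.Injective f := by
    intro j j' hjj
    apply hσ
    ext c
    exact DFunLike.congr_fun hjj c
  have h3 := (linearIndependent_monoidHom F F).comp f hf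
  rw [Fintype.linearIndependent_iff] at h3
  have h4 := h3 (fun j => φ (ρ j x)) (by
    funext c
    simp only [Function.comp_apply, Finset.sum_apply, Pi.smul_apply, smul_eq_mul, Pi.zero_apply]
    exact h1 c) i
  exact hφ h4

/-- **An abelian group acting faithfully on a nonempty finite set.** -/
theorem card_lt_two_pow {E Ω : Type*} [CommGroup E] [MulAction E Ω] [Finite Ω] [Nonempty Ω]
    (hf : ∀ e : E, (∀ ω : Ω, e • ω = ω) → e = 1) : Nat.card E < 2 ^ Nat.card Ω := by
  classical
  let r : MulAction.orbitRel.Quotient E Ω → Ω := fun o => Quotient.out o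
  let f : E → Set Ω := fun e => Set.range fun o => e • r o
  have hr : ∀ o, (Quotient.mk'' (r o) : MulAction.orbitRel.Quotient E Ω) = o := fun o => Quotient.out_eq' o
  have hinj : Function.Injective f := by
    intro e e' hee
    have h1 : ∀ o, e • r o = e' • r o := by
      intro o
      have h2 : e • r o ∈ f e' := by rw [← hee]; exact ⟨o, rfl⟩
      obtain ⟨o', ho'⟩ := h2
      have h3 : o' = o := by
        rw [← hr o', ← hr o]
        refine Quotient.sound' ?_
        rw [MulAction.orbitRel_apply, MulAction.mem_orbit_iff]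
        refine ⟨e'⁻¹ * e, ?_⟩
        rw [mul_smul, ← ho']
        exact inv_smul_smul _ _
      rw [h3] at ho'
      exact ho'.symm
    have h2 : e'⁻¹ * e = 1 := by
      apply hf
      intro ω
      have h3 : MulAction.orbitRel E Ω (r (Quotient.mk'' ω)) ω := Quotient.exact' (hr (Quotient.mk'' ω))
      rw [MulAction.orbitRel_apply, MulAction.mem_orbit_iff] at h3
      obtain ⟨g, hg⟩ := h3
      have hg' : ω = g⁻¹ • r (Quotient.mk'' ω) := by rw [← hg, inv_smul_smul]
      have h4 := h1 (Quotient.mk'' ω)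
      calc (e'⁻¹ * e) • ω = (e'⁻¹ * e) • g⁻¹ • r (Quotient.mk'' ω) := by rw [← hg']
        _ = g⁻¹ • e'⁻¹ • e • r (Quotient.mk'' ω) := by
          rw [smul_smul, smul_smul, smul_smul]
          congr 1
          rw [mul_comm (e'⁻¹ * e) g⁻¹, mul_assoc]
        _ = g⁻¹ • r (Quotient.mk'' ω) := by rw [h4, inv_smul_smul]
        _ = ω := hg'.symm
    exact (inv_mul_eq_one.1 h2).symm
  have hE : Finite E := Finite.of_injective f hinj
  have hne : ∅ ∉ Set.range f := by
    rintro ⟨e, he⟩
    obtain ⟨ω⟩ := ‹Nonempty Ω›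
    have : e • r (Quotient.mk'' ω) ∈ f e := ⟨_, rfl⟩
    rw [he] at this
    exact this
  have hcard : Nat.card (Set Ω) = 2 ^ Nat.card Ω := by
    have := Fintype.ofFinite Ω
    rw [Nat.card_eq_fintype_card, Nat.card_eq_fintype_card, Fintype.card_set]
  rw [← hcard, ← Nat.card_range_of_injective hinj]
  have h5 : Set.range f ⊂ Set.univ := by
    refine Set.ssubset_univ_iff.2 fun h => hne ?_
    rw [h]
    exact Set.mem_univ _
  have h6 := Set.ncard_lt_ncard h5 (Set.toFinite _)
  rwa [Set.ncard_univ] at h6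

/-- `2 ^ |Aut F| ≤ |F|`. -/
theorem two_pow_card_aut_le (F : Type*) [Field F] [Finite F] [CharP F 2] :
    2 ^ Nat.card (F ≃+* F) ≤ Nat.card F := by
  have hp : Fact (Nat.Prime 2) := ⟨Nat.prime_two⟩
  have := Fintype.ofFinite F
  let _alg : Algebra (ZMod 2) F := ZMod.algebra F 2
  have h1 : Nat.card F = 2 ^ Module.finrank (ZMod 2) F := by
    rw [Module.natCard_eq_pow_finrank (K := ZMod 2), Nat.card_zmod]
  rw [h1]
  refine Nat.pow_le_pow_right (by norm_num) ?_
  let g : (F ≃+* F) → (F ≃ₐ[ZMod 2] F) := fun σ =>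
    AlgEquiv.ofRingEquiv (f := σ) fun r => by
      have h2 : (σ : F →+* F).comp (algebraMap (ZMod 2) F) = algebraMap (ZMod 2) F := Subsingleton.elim _ _
      exact DFunLike.congr_fun h2 r
  have hg : Function.Injective g := by
    intro a b hab
    ext x
    have := DFunLike.congr_fun hab x
    exact this
  have h3 := Nat.card_le_card_of_injective g hg
  refine h3.trans ?_
  rw [Nat.card_eq_fintype_card]
  exact AlgEquiv.card_le

end Cfsg.Agent.Omega.NOThreeL.RF.GD
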