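import Cfsg.Agent.Omega.NOThreeL.RF.GNe
import Cfsg.Agent.Omega.NOThreeL.RF.MinX
import Cfsg.Agent.Omega.NOThreeL.RTools.Many.Nat

/-!
# NO-3L, `R ∩ (A)`, `NsF`: (GOOD) and `V ≰ O₂(C_G(R))` from `F_X = R`

`V = zl S P`, `Z⁺ = Zp`, `F_X = Z⁺ ∩ C(X)`, `X` minimal over `S₀` in `H` (`MinX V H S₀ X`).

* `not_le_o2_of` : `V ≤ X ≤ Y`, `V ≰ O₂(X)` imply `V ≰ O₂(Y)`; `nV_of`, `nVH_of` : `V ≰ O₂(C_G(R))`, `V ≰ O₂(C_H(R))`;
* **`good_of`** : if `F_X = R` for all minimal pairs `(P, H)` and all `X`, then `V ≤ O₂(C_G(z))` for `z ∈ Z - R`.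
-/

set_option autoImplicit false
set_option linter.unusedSectionVars false

namespace Cfsg.Agent.Omega.NOThreeL.RF

open Subgroup Cfsg Cfsg.Agent.Omega.MinPar
open Cfsg.Agent.ZN (zc zl o2)
open Cfsg.Agent.Omega.Frame Cfsg.Agent.Omega.FrameNOFF
open Cfsg.Agent.Omega.Node.NO3L Cfsg.Agent.Omega.NOThreeL.Basic
open Cfsg.Agent.MinSimple.VModule (o2_isPGroup le_normalizer_o2 le_o2)
open Cfsg.Agent.Omega.NOThreeL.RTools (isLong)

universe u

variable {G : Type u} [Group G]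

theorem not_le_o2_of [Finite G] {V X Y : Subgroup G} (hVX : V ≤ X) (hXY : X ≤ Y) (h : ¬ V ≤ o2 X) : ¬ V ≤ o2 Y := by
  intro h1
  apply h
  have h2 : o2 Y ⊓ X ≤ o2 X := by
    refine le_o2 inf_le_right ((o2_isPGroup _).to_le inf_le_left) fun g hg => ?_
    have h3 := le_normalizer_o2 Y (hXY hg)
    rw [mem_normalizer_iff] at h3 ⊢
    intro x
    rw [mem_inf, mem_inf, h3 x, mem_normalizer_iff.mp (Subgroup.le_normalizer hg) x]
  exact (le_inf h1 hVX).trans h2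

section minx

variable [Finite G] {V H S₀ X R Zp : Subgroup G}

/-- `R ≤ C(X)` -/
theorem MinX.le_cent (hF : Zp ⊓ centralizer (X : Set G) = R) : X ≤ centralizer (R : Set G) := by
  rw [le_centralizer_iff, ← hF]
  exact inf_le_right

theorem nV_of (hX : MinX V H S₀ X) (hV : V ≤ S₀) (hF : Zp ⊓ centralizer (X : Set G) = R) :
    ¬ V ≤ o2 (centralizer (R : Set G)) :=
  not_le_o2_of (hV.trans hX.le) (MinX.le_cent hF) hX.not

theorem nVH_of (hX : MinX V H S₀ X) (hV : V ≤ S₀) (hF : Zp ⊓ centralizer (X : Set G) = R) :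
    ¬ V ≤ o2 (H ⊓ centralizer (R : Set G)) :=
  not_le_o2_of (hV.trans hX.le) (le_inf hX.XH (MinX.le_cent hF)) hX.not

end minx

/-- **(GOOD)** -/
theorem good_of [Finite G] {S : Sylow 2 G} {P S₀ R Zp : Subgroup G} (hc : IsCharacteristicTwoType G)
    (D : Data (S : Subgroup G)) (hP : IsParS (S : Subgroup G) P) (hS₀ : S₀ ≤ (S : Subgroup G))
    (hZ : zc (S : Subgroup G) ≤ Zp)
    (hF : ∀ H, HypM S P H → ∀ X, MinX (zl (S : Subgroup G) P) H S₀ X → Zp ⊓ centralizer (X : Set G) = R) :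
    ∀ z ∈ zc (S : Subgroup G), z ∉ R → zl (S : Subgroup G) P ≤ o2 (centralizer ({z} : Set G)) := by
  intro z hz hzR
  by_contra hne
  have hz1 : z ≠ 1 := fun h => hzR (h ▸ one_mem _)
  have hl := isLong S hz hz1
  have h1 : PairA (S : Subgroup G) P (centralizer ({z} : Set G)) :=
    ⟨hP, hl, fun h => hne (le_o2_of_comm (D.low P hP) hl h)⟩
  obtain ⟨H, hH, hPH, hmin⟩ := RTools.Many.exists_min h1
  have hM : HypM S P H := ⟨hc, D, hP, hPH.long, hPH.ne, hmin⟩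
  have h2 : ¬ zl (S : Subgroup G) P ≤ o2 H := fun h => hM.ne (h.trans hM.o2_cent)
  obtain ⟨X, hXH, hX⟩ := exists_minX (V := zl (S : Subgroup G) P) (S₀ := S₀) (le_refl H) (hS₀.trans hM.SH) h2
  refine hzR (hF H hM X hX ▸ mem_inf.2 ⟨hZ hz, ?_⟩)
  rw [mem_centralizer_iff]
  intro x hx
  have h3 := hH (hXH hx)
  rw [mem_centralizer_singleton_iff] at h3
  exact h3

end Cfsg.Agent.Omega.NOThreeL.RF
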