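import Cfsg.Agent.Omega.NOThreeL.RF.Four
import Cfsg.Agent.Omega.NOThreeL.RF.DOne
import Cfsg.Agent.Omega.NOThreeL.RFEnd.Base
import Cfsg.Agent.MinSimple.CaseD8

/-!
# NO-3L, `R ∩ (A)`, `k = 1`, nonsplit, fields (`NsF`): the frame of (f), without `H*`

`M : NatK F S P V D 1`, `4 ≤ |F|` (`q : Sit F S P 1`), `R = Rt M`, `Z⁺ = Zp M`, `S₀ = LS M`.

* `TB M = P ∩ N(S₀) ∩ N(R)` (`B`): contains `S` and the torus; `tor_TB`;
* `exists_zR` : `R ∩ Z ≠ 1`; **`tor_mem`** : every element of `(Z ∩ D) R` is conjugate into `Z` under `TB M`;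
* `R_le_of` : a subgroup `≥ Z` normalised by `TB M` contains `R`;
* `fld` : `s ∈ S` trivial on `Z⁺ / D` centralises `Z⁺` (from `C_S(R) ≤ S₀`);
* `full` : `U ≤ S₀` normalised by `TB M`, not centralising `V`, induces all `up b`;
* **`Zp_le_of`** : then `Z⁺ ≤ U` and `Z⁺ ≤ [U, V] R` (if `g` is onto).
-/

set_option autoImplicit false
set_option linter.unusedSectionVars false

namespace Cfsg.Agent.Omega.NOThreeL.RF.Pre

open Subgroup Cfsg Cfsg.Agent.Omega.MinPar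
open Cfsg.Agent.ZN (zc zl o2)
open Cfsg.Agent.Omega.Frame Cfsg.Agent.Omega.FrameNOFF
open Cfsg.Agent.Omega.Node.NO3L Cfsg.Agent.Omega.NOThreeL.Basic
open Cfsg.Agent.Omega.NoFF.Basic (conj_conj mem_conj conj_le_iff conj_le_centralizer comm_symm comm_mono)
open Cfsg.Agent.MinSimple.VModule (zl_le zc_le_zl le_normalizer_zl zc_le o2_isPGroup le_normalizer_o2 le_o2
  normalizer_le_normalizer_zc mem_zc)
open Cfsg.Agent.Omega.NOThreeL (mem_normalizer_of_conj_eq le_normalizer_of mem_sup_of_comm)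
open Cfsg.Agent.Omega.NOThreeL.RTools (cm cm_def conj_mem_of_mem)
open Cfsg.Agent.Omega.NOThreeL.AOne (Act)
open Cfsg.Agent.Omega.FFThm (NatK ActsSL)
open Cfsg.Agent.Omega.FrameFF (cv)
open Cfsg.Agent.Omega.HOne (cv_le conj_mem_zl conj_mem_cv)
open Cfsg.Agent.Omega.IId.ThmCQ.Nsp
open Cfsg.Agent.Lib.SL2Mat
open Cfsg.Agent.Omega.NatPair (ap ap_mul ap_one ap_inv_ap)
open scoped Pointwise commutatorElement

universe u

variable {G : Type u} [Group G] [Finite G] {F : Type} [Field F] [Finite F] [CharP F 2] {S : Sylow 2 G}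
  {P : Subgroup G}

/-- coordinates on `V / D` -/
def co (M : NatK F (S : Subgroup G) P (zl (S : Subgroup G) P) (cv (S : Subgroup G) P) 1) : G → Fin 2 → F :=
  fun v => M.e v 0

/-- `B = T_P S` -/
def TB (M : NatK F (S : Subgroup G) P (zl (S : Subgroup G) P) (cv (S : Subgroup G) P) 1) : Subgroup G :=
  P ⊓ normalizer (LS M : Set G) ⊓ normalizer (Rt M : Set G)

variable {M : NatK F (S : Subgroup G) P (zl (S : Subgroup G) P) (cv (S : Subgroup G) P) 1}

theorem TB_le_P : TB M ≤ P := inf_le_left.trans inf_le_left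

theorem TB_norm_LS : TB M ≤ normalizer (LS M : Set G) := inf_le_left.trans inf_le_right

theorem TB_norm_R : TB M ≤ normalizer (Rt M : Set G) := inf_le_right

theorem P_norm_D : P ≤ normalizer (cv (S : Subgroup G) P : Set G) :=
  le_normalizer_of fun _ hs _ hd => conj_mem_cv hs hd

variable (q : Sit F S P 1)
include q

theorem S_le_TB : (S : Subgroup G) ≤ TB M :=
  le_inf (le_inf q.h.le (S_le_normalizer_LS q.h.le)) (S_norm_R q)

theorem TB_norm_Zp : TB M ≤ normalizer (Zp M : Set G) :=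
  le_normalizer_of fun _ hx _ hz => norm_Zp q (TB_le_P hx) (TB_norm_LS hx) hz

/-- the torus is in `TB M` -/
theorem tor_TB {t : F} (ht : t ≠ 0) : ∃ x ∈ TB M,
    ActsSL M.e (zl (S : Subgroup G) P) (cv (S : Subgroup G) P) x fun _ => dg t ht := by
  obtain ⟨x, hx, hxN, hA⟩ := tor (M := M) q ht
  refine ⟨x, mem_inf.2 ⟨mem_inf.2 ⟨hx, hxN⟩, ?_⟩, hA⟩
  have h1 : Subgroup.zpowers x ≤ normalizer (Rt M : Set G) := by
    refine le_normalizer_of fun u hu r hr => ?_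
    have h2 : ∃ B : Matrix.SpecialLinearGroup (Fin 2) F, ent B 1 0 = 0 ∧
        ActsSL M.e (zl (S : Subgroup G) P) (cv (S : Subgroup G) P) u fun _ => B := by
      have huP : u ∈ P := (zpowers_le.2 hx) hu
      have huN : u ∈ normalizer (LS M : Set G) := (zpowers_le.2 hxN) hu
      have h3 : u ∈ PL M := (zpowers_le.2 (⟨hx, _, hA⟩ : x ∈ PL M)) hu
      obtain ⟨-, B, hB⟩ := h3
      have hB0 : B = fun _ => B 0 := funext fun i => by rw [Fin.eq_zero i]
      rw [hB0] at hB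
      exact ⟨B 0, tri_of_norm q huP huN hB 0, hB⟩
    obtain ⟨B, hB0, hB⟩ := h2
    exact tri_norm_R q ((zpowers_le.2 hx) hu) hB0 hB hr
  exact h1 (mem_zpowers x)

/-- `R ∩ Z ≠ 1` -/
theorem exists_zR : ∃ z ∈ zc (S : Subgroup G), z ∈ Rt M ∧ z ≠ 1 := by
  obtain ⟨c, hc, hz, h1⟩ := Cfsg.Agent.MinSimple.CaseD8.exists_mem_zc (S := (S : Subgroup G)) (C := Rt M) S.isPGroup'
    ((R_le_V q).trans (V_le_S q)) (S_norm_R q) (Zf_ne_bot q 0)
  exact ⟨c, hz, hc, h1⟩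

/-- the torus is transitive on `R#` -/
theorem exists_conj {r z : G} (hr : r ∈ Rt M) (hz : z ∈ Rt M) (hr1 : r ≠ 1) (hz1 : z ≠ 1) :
    ∃ x ∈ TB M, x * r * x⁻¹ = z ∧ ∀ d ∈ cv (S : Subgroup G) P, x * d * x⁻¹ = d := by
  have h1 : M.e r 0 0 ≠ 0 := fun h => hr1 (R_eq_one q hr h)
  have h2 : M.e z 0 0 ≠ 0 := fun h => hz1 (R_eq_one q hz h)
  have ht : M.e z 0 0 / M.e r 0 0 ≠ 0 := div_ne_zero h2 h1
  obtain ⟨x, hx, hA⟩ := tor_TB (M := M) q ht
  refine ⟨x, hx, ?_, fun d hd => by rw [hA.2 d hd, mul_inv_cancel_right]⟩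
  refine R_inj q (conj_mem_of_mem (TB_norm_R hx) hr) hz ?_
  have h3 := congrFun (hA.1 r (R_le_V q hr) 0) 0
  rw [NatPair.ap_zero', dg_00, dg_01, zero_mul, add_zero, div_mul_cancel₀ _ h1] at h3
  exact h3

/-- **every element of `(Z ∩ D) R` is conjugate into `Z`** -/
theorem tor_mem {z : G} (hz : z ∈ (zc (S : Subgroup G) ⊓ cv (S : Subgroup G) P) ⊔ Rt M) :
    ∃ p ∈ TB M, p * z * p⁻¹ ∈ zc (S : Subgroup G) := by
  obtain ⟨e, he, r, hr, rfl⟩ := mem_sup_of_comm (fun x hx => by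
    rw [mem_centralizer_iff]
    intro y hy
    exact V_comm q (R_le_V q hy) (cv_le _ _ (mem_inf.1 hx).2)) hz
  by_cases hr1 : r = 1
  · refine ⟨1, one_mem _, ?_⟩
    rw [hr1, mul_one, one_mul, inv_one, mul_one]
    exact (mem_inf.1 he).1
  · obtain ⟨z₀, hz₀, hzR, hz1⟩ := exists_zR (M := M) q
    obtain ⟨x, hx, h1, h2⟩ := exists_conj q hr hzR hr1 hz1
    refine ⟨x, hx, ?_⟩
    have e1 : x * (e * r) * x⁻¹ = (x * e * x⁻¹) * (x * r * x⁻¹) := by group
    rw [e1, h1, h2 e (mem_inf.1 he).2]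
    exact mul_mem (mem_inf.1 he).1 hz₀

/-- a subgroup containing `Z` and normalised by `TB M` contains `R` -/
theorem R_le_of {U : Subgroup G} (hZ : zc (S : Subgroup G) ≤ U) (hU : TB M ≤ normalizer (U : Set G)) : Rt M ≤ U := by
  intro r hr
  by_cases hr1 : r = 1
  · rw [hr1]; exact one_mem _
  obtain ⟨z₀, hz₀, hzR, hz1⟩ := exists_zR (M := M) q
  obtain ⟨x, hx, h1, -⟩ := exists_conj q hzR hr hz1 hr1
  rw [← h1]
  exact conj_mem_of_mem (hU hx) (hZ hz₀)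

omit [Finite G] [Finite F] [CharP F 2] q in
theorem act_iff {x : G} {A : Matrix.SpecialLinearGroup (Fin 2) F}
    (h : ActsSL M.e (zl (S : Subgroup G) P) (cv (S : Subgroup G) P) x fun _ => A) :
    Act (co M) (zl (S : Subgroup G) P) x A := fun v hv => h.1 v hv 0

/-- **`s ∈ S` trivial on `Z⁺ / D` centralises `Z⁺`** -/
theorem fld (hS0 : ∀ s ∈ (S : Subgroup G), (∀ r ∈ Rt M, s * r = r * s) → s ∈ LS M) {s : G}
    (hs : s ∈ (S : Subgroup G)) (h : ∀ v ∈ Zp M, co M (s * v * s⁻¹) = co M v) : s ∈ centralizer (Zp M : Set G) := by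
  have h1 : s ∈ LS M := by
    refine hS0 s hs fun r hr => ?_
    have h2 : s * r * s⁻¹ = r := by
      refine R_inj q (conj_mem_of_mem (S_norm_R q hs) hr) hr ?_
      exact congrFun (h r (R_le_Zp q hr)) 0
    calc s * r = (s * r * s⁻¹) * s := by group
      _ = r * s := by rw [h2]
  rw [mem_centralizer_iff]
  intro z hz
  exact (Zp_comm q hz h1).symm

/-- the change of `β` under the torus -/
theorem bet_tor {x u : G} {t : F} (ht : t ≠ 0) (hx : x ∈ P)
    (hA : ActsSL M.e (zl (S : Subgroup G) P) (cv (S : Subgroup G) P) x fun _ => dg t ht) (hu : u ∈ LS M) :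
    bet M (x * u * x⁻¹) = t ^ 2 * bet M u := by
  have h1 := IId.Ns.acts_mul M (mul_mem hx (q.h.le hu.1)) (inv_mem hx)
    (IId.Ns.acts_mul M hx (q.h.le hu.1) hA (bet_LS q hu)) (IId.Ns.acts_inv M hx hA)
  refine bet_eq ?_
  have h2 : (fun _ : Fin 1 => dg t ht * up (bet M u) * (dg t ht)⁻¹) =
      fun _ : Fin 1 => (up (t ^ 2 * bet M u) : Matrix.SpecialLinearGroup (Fin 2) F) := by
    funext _
    have h3 := Cfsg.Agent.Omega.ThmC.FourOf.tri_up (A := dg t ht) (by simp) (bet M u)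
    rwa [dg_00] at h3
  rwa [h2] at h1

/-- **`U` induces all `up b`** -/
theorem full {U : Subgroup G} (hUS : U ≤ LS M) (hU : TB M ≤ normalizer (U : Set G))
    (hne : ¬ zl (S : Subgroup G) P ≤ centralizer (U : Set G)) (b : F) : ∃ u ∈ U, bet M u = b := by
  classical
  by_cases hb : b = 0
  · exact ⟨1, one_mem _, by rw [bet_one q, hb]⟩
  obtain ⟨u, hu, hub⟩ : ∃ u ∈ U, bet M u ≠ 0 := by
    by_contra hcon
    push Not at hcon
    apply hne
    rw [le_centralizer_iff]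
    intro u hu
    exact (bet_eq_zero q (hUS hu)).1 (hcon u hu)
  have : Fintype F := Fintype.ofFinite F
  obtain ⟨t, ht⟩ := FiniteField.isSquare_of_char_two (ringChar.eq F 2) (b / bet M u)
  have ht0 : t ≠ 0 := by
    rintro rfl
    rw [mul_zero] at ht
    exact div_ne_zero hb hub ht
  obtain ⟨x, hx, hA⟩ := tor_TB (M := M) q ht0
  refine ⟨x * u * x⁻¹, conj_mem_of_mem (hU hx) hu, ?_⟩
  rw [bet_tor q ht0 (TB_le_P hx) hA (hUS hu), pow_two, ← ht, div_mul_cancel₀ _ hub]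

variable {g : F → G} (hg : IsG M g)
include hg

/-- **`Z⁺ ≤ [U, V] R`** (elementwise) -/
theorem Zp_le_of {U K : Subgroup G} (hUS : U ≤ LS M) (hU : TB M ≤ normalizer (U : Set G))
    (hne : ¬ zl (S : Subgroup G) P ≤ centralizer (U : Set G)) (hgs : ∀ d ∈ cv (S : Subgroup G) P, ∃ x, g x = d)
    (hK : ∀ v ∈ zl (S : Subgroup G) P, ∀ u ∈ U, cm v u ∈ K) (hRK : Rt M ≤ K) : Zp M ≤ K := by
  intro z hz
  obtain ⟨r, hr, d, hd, rfl⟩ := exists_rd q hz
  refine mul_mem (hRK hr) ?_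
  obtain ⟨x, rfl⟩ := hgs d hd
  obtain ⟨v, hv, -, hv1⟩ := exists_v1 (M := M) q
  obtain ⟨u, hu, hub⟩ := full q hUS hU hne x
  obtain ⟨r', hr', -, h2⟩ := exists_cm q hg hv (hUS hu)
  rw [hv1, hub, one_pow, one_mul] at h2
  have h3 := hK v hv u hu
  rw [h2] at h3
  have h4 := mul_mem (inv_mem (hRK hr')) h3
  rwa [inv_mul_cancel_left] at h4

end Cfsg.Agent.Omega.NOThreeL.RF.Pre
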