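import Cfsg.Agent.Omega.NOThreeL.RA.Base

/-!
# NO-3L, `R ∩ (A)`, `k = 1`, not split, field automorphisms (#22083, #21454): `N_S` is weakly closed

Abstract data `Wc S V U H S₀ Zp` : `Zp = Z⁺ = C_V(U)`, `S₀ = C_S(Z⁺)`, `S / S₀` has at most one involution,
`|V / Z⁺| > 2`, `C_U(v) = C_U(V)` for `v ∈ V - Z⁺`.

* `Wc.le_S0` (761 (1)) : `n ∈ H`, `V^n ≤ S` implies `V^n ≤ S₀`;
* `Wc.conj_le` : a 2-subgroup `Q ≤ H` containing `S₀^x` (`x ∈ H`) : `V^{σx} ≤ S₀^x` for `σ ∈ Q`;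
* **`Wc.comm`** : then `V^x` and `V^{σx}` commute (NOFF).
-/

set_option autoImplicit false

namespace Cfsg.Agent.Omega.NOThreeL.RF

open Subgroup Cfsg
open Cfsg.Agent.ZN (zc zl o2)
open Cfsg.Agent.Omega.NoFF.Basic (conj_conj mem_conj conj_le_iff conj_le_centralizer comm_symm comm_mono)
open Cfsg.Agent.Omega.NOThreeL.Pair (conj_eq_of_mem)
open Cfsg.Agent.Omega.NOThreeL.RTools (cm cm_def conj_mem_of_mem)
open scoped Pointwise

universe u

variable {G : Type u} [Group G]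

/-- The abstract data of the weakly closed group `N_S`. -/
structure Wc [Finite G] (S : Sylow 2 G) (V U H S₀ Zp : Subgroup G) : Prop where
  VS : V ≤ (S : Subgroup G)
  SV : (S : Subgroup G) ≤ normalizer (V : Set G)
  SH : (S : Subgroup G) ≤ H
  HU : H ≤ normalizer (U : Set G)
  commV : ∀ x ∈ V, ∀ y ∈ V, x * y = y * x
  sqV : ∀ x ∈ V, x * x = 1
  S0S : S₀ ≤ (S : Subgroup G)
  SS0 : (S : Subgroup G) ≤ normalizer (S₀ : Set G)
  ZpV : Zp ≤ V
  ZpU : Zp ≤ U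
  S0c : ∀ s ∈ (S : Subgroup G), s ∈ S₀ ↔ ∀ z ∈ Zp, s * z = z * s
  cent : ∀ v ∈ V, v ∉ Zp → ∀ u ∈ U, v * u = u * v → ∀ w ∈ V, w * u = u * w
  VU : ∀ v ∈ V, ∀ u ∈ U, cm v u ∈ Zp
  inv : ∀ a ∈ (S : Subgroup G), ∀ b ∈ (S : Subgroup G), a * a = 1 → b * b = 1 → a ∉ S₀ → b ∉ S₀ → a * b ∈ S₀
  three : ∃ v ∈ V, ∃ w ∈ V, v ∉ Zp ∧ w ∉ Zp ∧ v * w ∉ Zp
  noff : ∀ x y : G, MulAut.conj x • V ≤ MulAut.conj y • (S : Subgroup G) →
    MulAut.conj y • V ≤ MulAut.conj x • (S : Subgroup G) →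
      ∀ a ∈ MulAut.conj x • V, ∀ b ∈ MulAut.conj y • V, a * b = b * a

/-- A 2-subgroup of `H ≥ S` is in an `H`-conjugate of `S`. -/
theorem exists_conj [Finite G] (S : Sylow 2 G) {H Q : Subgroup G} (hSH : (S : Subgroup G) ≤ H)
    (hQ : IsPGroup 2 Q) (hQH : Q ≤ H) : ∃ m ∈ H, Q ≤ MulAut.conj m • (S : Subgroup G) := by
  have : Fact (Nat.Prime 2) := ⟨Nat.prime_two⟩
  have h1 : IsPGroup 2 (Q.subgroupOf H) := hQ.comap_of_injective H.subtype H.subtype_injective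
  obtain ⟨T, hT⟩ := h1.exists_le_sylow
  obtain ⟨g, hg⟩ := MulAction.exists_smul_eq H (S.subtype hSH) T
  refine ⟨g, g.2, fun x hx => ?_⟩
  have h2 : (⟨x, hQH hx⟩ : H) ∈ (T : Subgroup H) := hT hx
  rw [← hg, Sylow.coe_subgroup_smul, mem_conj, Sylow.coe_subtype, mem_subgroupOf] at h2
  rw [mem_conj]
  exact h2

/-- `N_T = ⟨V^k ≤ T : k ∈ H⟩` -/
def NS (V H T : Subgroup G) : Subgroup G := ⨆ (k : G) (_ : k ∈ H ∧ MulAut.conj k • V ≤ T), MulAut.conj k • V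

theorem le_NS {V H T : Subgroup G} {k : G} (hk : k ∈ H) (h : MulAut.conj k • V ≤ T) :
    MulAut.conj k • V ≤ NS V H T := le_iSup₂_of_le k ⟨hk, h⟩ le_rfl

theorem NS_le {V H T A : Subgroup G} (h : ∀ k ∈ H, MulAut.conj k • V ≤ T → MulAut.conj k • V ≤ A) :
    NS V H T ≤ A := iSup₂_le fun k hk => h k hk.1 hk.2

theorem conj_NS_le {V H T : Subgroup G} {x : G} (hx : x ∈ H) :
    MulAut.conj x • NS V H T ≤ NS V H (MulAut.conj x • T) := by
  rw [Subgroup.pointwise_smul_subset_iff]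
  refine NS_le fun k hk hT => ?_
  rw [← Subgroup.pointwise_smul_subset_iff, conj_conj]
  refine le_NS (mul_mem hx hk) ?_
  rw [← conj_conj]
  exact conj_le_iff.2 hT

theorem conj_NS {V H T : Subgroup G} {x : G} (hx : x ∈ H) :
    MulAut.conj x • NS V H T = NS V H (MulAut.conj x • T) := by
  refine le_antisymm (conj_NS_le hx) ?_
  have h1 := conj_NS_le (V := V) (T := MulAut.conj x • T) (inv_mem hx)
  rw [conj_conj, inv_mul_cancel, map_one, one_smul] at h1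
  have h2 := (conj_le_iff (g := x)).2 h1
  rwa [conj_conj, mul_inv_cancel, map_one, one_smul] at h2

theorem card_conj (x : G) (A : Subgroup G) : Nat.card (MulAut.conj x • A : Subgroup G) = Nat.card A :=
  (Nat.card_congr (Subgroup.equivSMul (MulAut.conj x) A).toEquiv).symm

namespace Wc

variable [Finite G] {S : Sylow 2 G} {V U H S₀ Zp : Subgroup G} (h : Wc S V U H S₀ Zp)
include h

theorem VS0 : V ≤ S₀ := fun v hv => (h.S0c v (h.VS hv)).2 fun z hz => h.commV v hv z (h.ZpV hz)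

theorem S0_comm {s z : G} (hs : s ∈ S₀) (hz : z ∈ Zp) : s * z = z * s := (h.S0c s (h.S0S hs)).1 hs z hz

/-- **761 (1)** : `V^n ≤ S` implies `V^n ≤ S₀`. -/
theorem le_S0 {n : G} (hn : n ∈ H) (hS : MulAut.conj n • V ≤ (S : Subgroup G)) : MulAut.conj n • V ≤ S₀ := by
  intro a ha
  by_contra haS
  have h1 : ∃ y ∈ Zp, a * y ≠ y * a := by
    by_contra hcon
    push Not at hcon
    exact haS ((h.S0c a (hS ha)).2 hcon)
  obtain ⟨y, hy, hay⟩ := h1
  have hmem : ∀ {b : G}, b ∈ V → n * b * n⁻¹ ∈ MulAut.conj n • V := by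
    intro b hb
    rw [mem_conj]
    have e1 : n⁻¹ * (n * b * n⁻¹) * n = b := by group
    rwa [e1]
  have key : ∀ b ∈ V, b ∉ Zp → n * b * n⁻¹ ∉ S₀ := by
    intro b hb hbZ hb0
    have h2 : n * b * n⁻¹ * y = y * (n * b * n⁻¹) := h.S0_comm hb0 hy
    have h3 : b * (n⁻¹ * y * n) = (n⁻¹ * y * n) * b := by
      calc b * (n⁻¹ * y * n) = n⁻¹ * (n * b * n⁻¹ * y) * n := by group
        _ = n⁻¹ * (y * (n * b * n⁻¹)) * n := by rw [h2]
        _ = (n⁻¹ * y * n) * b := by group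
    have h4 : n⁻¹ * y * n ∈ U := by
      have h5 := conj_mem_of_mem (h.HU (inv_mem hn)) (h.ZpU hy)
      rwa [inv_inv] at h5
    have h5 := h.cent b hb hbZ _ h4 h3 (n⁻¹ * a * n) (mem_conj.1 ha)
    apply hay
    calc a * y = n * ((n⁻¹ * a * n) * (n⁻¹ * y * n)) * n⁻¹ := by group
      _ = n * ((n⁻¹ * y * n) * (n⁻¹ * a * n)) * n⁻¹ := by rw [h5]
      _ = y * a := by group
  obtain ⟨v, hv, w, hw, h2, h3, h4⟩ := h.three
  have hsq : ∀ {b : G}, b ∈ V → (n * b * n⁻¹) * (n * b * n⁻¹) = 1 := by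
    intro b hb
    calc (n * b * n⁻¹) * (n * b * n⁻¹) = n * (b * b) * n⁻¹ := by group
      _ = 1 := by rw [h.sqV b hb]; group
  have h5 := h.inv _ (hS (hmem hv)) _ (hS (hmem hw)) (hsq hv) (hsq hw) (key v hv h2) (key w hw h3)
  have e1 : n * v * n⁻¹ * (n * w * n⁻¹) = n * (v * w) * n⁻¹ := by group
  rw [e1] at h5
  exact key (v * w) (mul_mem hv hw) h4 h5

theorem NS_le_S0 {x : G} (hx : x ∈ H) :
    NS V H (MulAut.conj x • (S : Subgroup G)) ≤ MulAut.conj x • S₀ := by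
  refine NS_le fun k hk hT => ?_
  have h1 : MulAut.conj (x⁻¹ * k) • V ≤ (S : Subgroup G) := by
    have h2 := (conj_le_iff (g := x⁻¹)).2 hT
    rwa [conj_conj, conj_conj, inv_mul_cancel, map_one, one_smul] at h2
  have h2 := (conj_le_iff (g := x)).2 (h.le_S0 (mul_mem (inv_mem hx) hk) h1)
  rwa [conj_conj, mul_inv_cancel_left] at h2

/-- `V^{σx} ≤ S₀^x` for `σ` in a 2-subgroup of `H` containing `S₀^x`. -/
theorem conj_le {x σ : G} {Q : Subgroup G} (hx : x ∈ H) (hQ : IsPGroup 2 Q) (hQH : Q ≤ H)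
    (hSQ : MulAut.conj x • S₀ ≤ Q) (hσ : σ ∈ Q) : MulAut.conj (σ * x) • V ≤ MulAut.conj x • S₀ := by
  obtain ⟨m, hm, hQm⟩ := exists_conj S h.SH hQ hQH
  have h1 : NS V H (MulAut.conj x • (S : Subgroup G)) ≤ NS V H (MulAut.conj m • (S : Subgroup G)) := by
    refine NS_le fun k hk hT => le_NS hk ?_
    exact (le_NS hk hT).trans ((h.NS_le_S0 hx).trans (hSQ.trans hQm))
  have h2 : NS V H (MulAut.conj x • (S : Subgroup G)) = NS V H (MulAut.conj m • (S : Subgroup G)) := by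
    refine Subgroup.eq_of_le_of_card_ge h1 ?_
    rw [← conj_NS hx, ← conj_NS hm, card_conj, card_conj]
  have h3 : MulAut.conj x • V ≤ MulAut.conj m • (S : Subgroup G) :=
    ((conj_le_iff (g := x)).2 h.VS0).trans (hSQ.trans hQm)
  have h4 : MulAut.conj (σ * x) • V ≤ MulAut.conj m • (S : Subgroup G) := by
    rw [← conj_conj]
    have h5 := (conj_le_iff (g := σ)).2 h3
    rwa [Subgroup.conj_smul_eq_self_of_mem (hQm hσ)] at h5
  have h5 := le_NS (mul_mem (hQH hσ) hx) h4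
  rw [← h2] at h5
  exact h5.trans (h.NS_le_S0 hx)

/-- **`V^x` and `V^{σx}` commute.** -/
theorem comm {x σ : G} {Q : Subgroup G} (hx : x ∈ H) (hQ : IsPGroup 2 Q) (hQH : Q ≤ H)
    (hSQ : MulAut.conj x • S₀ ≤ Q) (hσ : σ ∈ Q) :
    ∀ a ∈ MulAut.conj (σ * x) • V, ∀ b ∈ MulAut.conj x • V, a * b = b * a := by
  refine h.noff _ _ ((h.conj_le hx hQ hQH hSQ hσ).trans ((conj_le_iff (g := x)).2 h.S0S)) ?_
  have h1 := (h.conj_le hx hQ hQH hSQ (inv_mem hσ)).trans ((conj_le_iff (g := x)).2 h.S0S)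
  have h2 := (conj_le_iff (g := σ)).2 h1
  rwa [conj_conj, conj_conj, mul_inv_cancel_left] at h2

end Wc

end Cfsg.Agent.Omega.NOThreeL.RF
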